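import Cfsg.Agent.RV.C1
import Cfsg.Agent.Fus.SL2
import Cfsg.Agent.Fus.Real

/-! The pair `(W, R)` of a saturated fusion system over the extraspecial group. -/

set_option autoImplicit false

namespace CF.RV

open Cfsg Cfsg.FusionSystem CF.Fus Subgroup

variable {p : ℕ} [Fact p.Prime] {u v : ZMod p × ZMod p} {x y z : Hs (ZMod p)} {A : GL (Fin 2) (ZMod p)}
  {f : Hs (ZMod p) → Hs (ZMod p)} {E P : Subgroup (Hs (ZMod p))}

theorem pow_p (x : Hs (ZMod p)) : x ^ p = 1 := by rw [pow_eq]; ext <;> simp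

theorem card_H : Nat.card (Hs (ZMod p)) = p ^ 3 := by rw [card_Hs, Nat.card_zmod]

theorem comm_iff (hp : p ≠ 2) : x * y = y * x ↔ x.a * y.b = x.b * y.a :=
  ⟨fun e => by
    have := congrArg Hs.c e
    simp only [mul_c] at this
    exact mul_left_cancel₀ (two_ne hp) (by linear_combination this), fun e => by
    ext
    · simp [add_comm]
    · simp [add_comm]
    · simp only [mul_c]; linear_combination 2 * e⟩

theorem mem_Z (hp : p ≠ 2) : x ∈ CS (⊤ : Subgroup (Hs (ZMod p))) ⊤ ↔ (x.a, x.b) = 0 := by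
  simp only [mem_CS, comm_iff hp, mem_top, true_and, forall_true_left, Prod.mk_eq_zero]
  exact ⟨fun h => ⟨by simpa using (h ⟨0, 1, 0⟩).symm, by simpa using h ⟨1, 0, 0⟩⟩, fun h y => by simp [h.1, h.2]⟩

theorem idx_Z (hp : p ≠ 2) : (CS (⊤ : Subgroup (Hs (ZMod p))) ⊤).relIndex ⊤ ≤ p ^ 2 := by
  have a : zpowers (el 0 1 : Hs (ZMod p)) ≤ CS ⊤ ⊤ := zpowers_le.2 ((mem_Z hp).2 rfl)
  refine (relIndex_le_of_le_left a relIndex_ne_zero').trans_eq ?_
  have := (zpowers (el 0 1 : Hs (ZMod p))).card_mul_index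
  rw [card_zpowers_prime (pow_p _) fun e => one_ne_zero (congrArg Hs.c e), card_H, pow_succ'] at this
  rw [relIndex_top_right]
  exact Nat.eq_of_mul_eq_mul_left (Fact.out : p.Prime).pos this

theorem exists_smul (hv : v ≠ 0) (e : u.1 * v.2 = u.2 * v.1) : ∃ k : ℤ, u = (k : ZMod p) • v := by
  by_cases h : v.1 = 0
  · have h2 : v.2 ≠ 0 := fun e => hv (Prod.ext h e)
    obtain ⟨k, hk⟩ := exists_cast (u.2 / v.2)
    rw [h, mul_zero] at e
    exact ⟨k, Prod.ext (by simp [h, (mul_eq_zero.1 e).resolve_right h2]) (by simp [hk, h2])⟩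
  · obtain ⟨k, hk⟩ := exists_cast (u.1 / v.1)
    exact ⟨k, Prod.ext (by simp [hk, h]) (by simp only [Prod.smul_snd, hk, smul_eq_mul]; field_simp; exact e.symm)⟩

/-- the subgroup over a line -/
def Vs (v : ZMod p × ZMod p) : Subgroup (Hs (ZMod p)) where
  carrier := {x | x.a * v.2 = x.b * v.1}
  one_mem' := by simp
  mul_mem' := fun {x y} (a : _ = _) (b : _ = _) => show _ = _ by simp only [mul_a, mul_b]; linear_combination a + b
  inv_mem' := fun {x} (a : _ = _) => show _ = _ by simp only [inv_a, inv_b]; linear_combination -a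

theorem mem_Vs : x ∈ Vs v ↔ x.a * v.2 = x.b * v.1 := Iff.rfl

theorem exists_act (hp : p ≠ 2) (hm : MulOn f ⊤) (hi : ∀ x, f x = 1 → x = 1) :
    ∃ (A : GL (Fin 2) (ZMod p)) (s : Hs (ZMod p)), ∀ x, f x = act A (s * x * s⁻¹) := by
  obtain ⟨φ, rfl⟩ : ∃ φ : Hs (ZMod p) →* Hs (ZMod p), φ = f :=
    ⟨MonoidHom.mk' f fun _ _ => hm trivial trivial, rfl⟩
  have t := two_ne hp
  have e : (⟨0, 0, 1⟩ : Hs (ZMod p)) ^ 2 = ⟨1, 0, 0⟩ * ⟨0, 1, 0⟩ * (⟨1, 0, 0⟩ : Hs (ZMod p))⁻¹ * (⟨0, 1, 0⟩ : Hs (ZMod p))⁻¹ := by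
    rw [pow_eq]; ext <;> simp; norm_num
  have e' := congrArg φ e
  simp only [map_pow, map_mul, map_inv] at e'
  have k : ∀ i j k : ℤ, φ ⟨i, j, k⟩ = φ ⟨1, 0, 0⟩ ^ i * φ ⟨0, 1, 0⟩ ^ j * φ ⟨0, 0, 1⟩ ^ (k - i * j) := fun i j k => by
    simp only [← map_zpow, ← map_mul, zpow_eq]
    congr 1; ext <;> simp
  have n := mt (hi ⟨0, 0, 1⟩) fun e => one_ne_zero (congrArg Hs.c e)
  generalize φ ⟨1, 0, 0⟩ = X at *
  generalize φ ⟨0, 1, 0⟩ = Y at *
  obtain e2 : φ ⟨0, 0, 1⟩ = ⟨0, 0, X.a * Y.b - Y.a * X.b⟩ := by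
    rw [pow_eq] at e'
    have e1 := congrArg Hs.a e'
    have e2 := congrArg Hs.b e'
    have e3 := congrArg Hs.c e'
    simp only [mul_a, mul_b, mul_c, inv_a, inv_b, inv_c, Nat.cast_ofNat] at e1 e2 e3
    ext <;> refine mul_left_cancel₀ t ?_
    · linear_combination e1
    · linear_combination e2
    · linear_combination e3
  have d : X.a * Y.b - Y.a * X.b ≠ 0 := fun e => n (by rw [e2, e]; rfl)
  have w := mul_inv_cancel₀ (mul_ne_zero t d)
  generalize (2 * (X.a * Y.b - Y.a * X.b))⁻¹ = ω at w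
  refine ⟨Matrix.GeneralLinearGroup.mkOfDetNeZero !![X.a, Y.a; X.b, Y.b] (by rwa [Matrix.det_fin_two_of]),
    ⟨Y.c * ω, -X.c * ω, 0⟩, ?_⟩
  rintro ⟨i, j, l⟩
  obtain ⟨i, rfl⟩ := exists_cast i
  obtain ⟨j, rfl⟩ := exists_cast j
  obtain ⟨l, rfl⟩ := exists_cast l
  rw [k, e2, conj_eq]
  simp only [zpow_eq]
  change _ = (⟨X.a * i + Y.a * j, X.b * i + Y.b * j, (X.a * Y.b - Y.a * X.b) * _⟩ : Hs (ZMod p))
  ext
  · simp; ring
  · simp; ring
  · simp; linear_combination (-(i * X.c + j * Y.c) : ZMod p) * w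

end CF.RV
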