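import Cfsg.Agent.RV.F1

/-! A saturated fusion system over the extraspecial group is determined by its pair `(W, R)`. -/

set_option autoImplicit false

namespace CF.RV

open Cfsg Cfsg.FusionSystem CF.Fus Subgroup

variable {p : ℕ} [Fact p.Prime] {u v : ZMod p × ZMod p} {x y z : Hs (ZMod p)} {A : GL (Fin 2) (ZMod p)}
  {f : Hs (ZMod p) → Hs (ZMod p)} {E P : Subgroup (Hs (ZMod p))} {F D : FusionSystem (⊤ : Subgroup (Hs (ZMod p)))}

/-- the matrices that belong to the system -/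
def WF (F : FusionSystem (⊤ : Subgroup (Hs (ZMod p)))) : Subgroup (GL (Fin 2) (ZMod p)) where
  carrier := {A | Mor F ⊤ (act A)}
  one_mem' := mor_of_eq_self F le_rfl fun x _ => by simp
  mul_mem' := fun {A B} (a : Mor F ⊤ _) (b : Mor F ⊤ _) => (b.comp a fun _ _ => trivial).congr fun x _ => by simp
  inv_mem' := fun {A} (a : Mor F ⊤ _) => by
    have := a.symm' (g := act A⁻¹) fun x _ => by simp
    rwa [a.iso_top.img_eq] at this

/-- vectors below an element that is fused to the centre -/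
def RF (F : FusionSystem (⊤ : Subgroup (Hs (ZMod p)))) : Set (ZMod p × ZMod p) :=
  {v | v ≠ 0 ∧ ∃ c c' f, Mor F (zpowers (el v c)) f ∧ f (el v c) = el 0 c'}

theorem mor_top (hp : p ≠ 2) (hf : Mor F ⊤ f) : ∃ A ∈ WF F, ∃ s, ∀ x, f x = act A (s * x * s⁻¹) := by
  obtain ⟨A, s, e⟩ := exists_act hp hf.mul fun x e => (hf.piso.eq_one_iff trivial).1 e
  exact ⟨A, (hf.comp_cj (s := s⁻¹) trivial le_rfl fun _ _ => trivial).congr fun x _ => by simp [e, mul_assoc], s, e⟩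

theorem mor_top_of (hp : p ≠ 2) (h : WF F ≤ WF D) (hf : Mor F ⊤ f) : Mor D ⊤ f := by
  obtain ⟨A, a, s, e⟩ := mor_top hp hf
  exact (Mor.comp_cj (h a) (s := s) trivial le_rfl fun _ _ => trivial).congr fun x _ => e x

theorem RF_smul (h : v ∈ RF F) {k : ZMod p} (hk : k ≠ 0) : k • v ∈ RF F := by
  obtain ⟨n, c, c', f, hf, e⟩ := h
  obtain ⟨k, rfl⟩ := exists_cast k
  have a : el ((k : ZMod p) • v) (k * c) = el v c ^ k := by rw [zpow_eq]; rfl
  refine ⟨smul_ne_zero hk n, k * c, k * c', f, ?_⟩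
  rw [a, hf.mul.map_zpow (mem_zpowers _), e]
  exact ⟨hf.mono (zpowers_le.2 (zpow_mem (mem_zpowers _) k)), by simp [el, zpow_eq]⟩

theorem RF_ap (hA : A ∈ WF F) (h : v ∈ RF F) : ap A v ∈ RF F := by
  obtain ⟨n, c, c', f, hf, e⟩ := h
  have a : act A⁻¹ (el (ap A v) (dt A * c)) = el v c := by rw [← act_el]; simp
  refine ⟨ap_ne A n, dt A * c, c', f ∘ act A⁻¹, (Mor.mono (inv_mem hA) le_top).comp hf ?_, by
    rw [Function.comp_apply, a, e]⟩
  rintro _ ⟨k, rfl⟩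
  exact ⟨k, by simp only [map_zpow, a]⟩

theorem ess_eq (hp : p ≠ 2) (h : TV F p E (CS ⊤ ⊤) z) (hx : x ∈ E) (n : (x.a, x.b) ≠ 0) : E = Vs (x.a, x.b) := by
  refine le_antisymm (fun y hy => (comm_iff hp).1 (h.comm hx y hy)) fun y hy => ?_
  obtain ⟨k, e⟩ := exists_smul (u := (y.a, y.b)) n hy
  rw [← inv_mul_cancel_right y (x ^ k)]
  refine mul_mem (h.le ((mem_Z hp).2 ?_)) (zpow_mem hx k)
  rw [zpow_eq]
  exact Prod.ext (by simpa [← sub_eq_add_neg, sub_eq_zero] using congrArg Prod.fst e)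
    (by simpa [← sub_eq_add_neg, sub_eq_zero] using congrArg Prod.snd e)

theorem ess_of_RF (hp : p ≠ 2) (hF : Sat F p) (h : v ∈ RF F) : F.IsEssential p (Vs v) := by
  obtain ⟨n, c, c', f, hf, e⟩ := h
  have k : ∀ α ∈ F.autGroup ⊤, ∀ x, (x ∈ CS ⊤ ⊤ ∨ ∃ E, F.IsEssential p E ∧ x ∈ E) →
      fn α x ∈ CS ⊤ ⊤ ∨ ∃ E, F.IsEssential p E ∧ fn α x ∈ E := fun α a x =>
    Or.imp (stab_maps (CS_le_stab α)) fun ⟨E, b, c⟩ => ⟨_, (mor_fn le_rfl a).fiso.ess hF b, mem_img_of_mem c⟩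
  have := hF.alperin (M := fun P f => ∀ x ∈ P, (f x ∈ CS ⊤ ⊤ ∨ ∃ E, F.IsEssential p E ∧ f x ∈ E) →
      x ∈ CS ⊤ ⊤ ∨ ∃ E, F.IsEssential p E ∧ x ∈ E)
    (fun _ a b c x hx d => a x (b hx) (c x hx ▸ d)) (fun _ _ a b c x hx d => a x hx (b _ (c x hx) d)) (by
      rintro P (rfl | hP) α a x hx d
      · exact fn_inv_fn α x ▸ k _ (inv_mem a) _ d
      · exact .inr ⟨P, hP, hx⟩) _ _ hf _ (mem_zpowers _) (.inl (e ▸ (mem_Z hp).2 rfl))
  obtain ⟨E, a, b⟩ := this.resolve_left fun a => n ((mem_Z hp).1 a)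
  obtain ⟨-, z, -, t⟩ := hF.tv_of_sq (idx_Z hp) a
  exact ess_eq hp t b n ▸ a

theorem RF_of_gen (hp : p ≠ 2) (h : TV F p E (CS ⊤ ⊤) z) {α : MulAut E} (hα : Gen F E α) :
    ((fn α z).a, (fn α z).b) ∈ RF F := by
  refine ⟨fun e => h.notMem hα ((mem_Z hp).2 e), (fn α z).c, z.c, fn α⁻¹,
    (mor_fn le_top hα.inv.1).mono (zpowers_le.2 (fn_mem α h.memE)), (fn_inv_fn α z).trans ?_⟩
  have := (mem_Z hp).1 h.mem
  exact Hs.ext (congrArg Prod.fst this) (congrArg Prod.snd this) rfl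

theorem exists_RF (hp : p ≠ 2) (hF : Sat F p) (h : F.IsEssential p E) : ∃ v ∈ RF F, E = Vs v :=
  let ⟨_, _, _, t⟩ := hF.tv_of_sq (idx_Z hp) h
  let ⟨α, a⟩ := hF.exists_gen h
  ⟨_, RF_of_gen hp t a, ess_eq hp t (fn_mem α t.memE) (RF_of_gen hp t a).1⟩

theorem dat (hp : p ≠ 2) (hF : Sat F p) : Dat (WF F) (RF F) where
  pp A hA e := by
    obtain ⟨α, a, b⟩ := (Mor.iso_top hA).exists_aut
    have k : ∀ (n : ℕ) x, fn (α ^ n) x = act (A ^ n) x := fun n x => by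
      induction n with
      | zero => simp
      | succ n ih => rw [fn_pow_succ, ih, b _ trivial, pow_succ', map_mul, MulAut.mul_apply]
    obtain ⟨s, -, c⟩ := mem_Inn.1 (hF.mem_Inn_of_pow a (k := 1) (aut_ext fun x _ => by rw [pow_one, k, e]; simp))
    have d : ∀ v, ap A v = v := fun v => by
      have := b (el v 0) trivial
      rw [← c, fn_cA (le_normalizer (mem_top s)) (mem_top _), conj_eq, act_el] at this
      exact Prod.ext (congrArg Hs.a this).symm (congrArg Hs.b this).symm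
    have d1 := d (1, 0)
    have d2 := d (0, 1)
    simp only [ap, mul_one, mul_zero, add_zero, zero_add, Prod.mk.injEq] at d1 d2
    ext i j
    fin_cases i <;> fin_cases j <;> simp [d1.1, d1.2, d2.1, d2.2]
  ne v h := h.1
  sm v h k := RF_smul h
  inv A hA v := RF_ap hA
  tau v h μ hμ := by
    have a := ess_of_RF hp hF h
    obtain ⟨b, z, -, t⟩ := hF.tv_of_sq (idx_Z hp) a
    obtain ⟨α, hα⟩ := hF.exists_gen a
    obtain ⟨l, rfl⟩ := exists_cast μ
    obtain ⟨m, hm⟩ := exists_cast (l : ZMod p)⁻¹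
    obtain ⟨β, b1, -, b2, b3, -⟩ := t.tau hα (l := l) (m := m) (by rw [hm, mul_inv_cancel₀ hμ])
    obtain ⟨A, hA, s, e⟩ := mor_top hp ((mor_fn NS_le b1).mono b.ge)
    rw [e, conj_eq, zpow_eq] at b2 b3
    obtain ⟨k, hk⟩ := exists_smul (u := ((fn α z).a, (fn α z).b)) h.1 (fn_mem α t.memE)
    have k0 : (k : ZMod p) ≠ 0 := fun e => (RF_of_gen hp t hα).1 (by rw [hk, e, zero_smul])
    have z0 := (mem_Z hp).1 t.mem
    refine ⟨A, hA, smul_right_injective _ k0 ?_, mul_right_cancel₀ (fun e => t.ne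
      (Hs.ext (congrArg Prod.fst z0) (congrArg Prod.snd z0) e)) ?_⟩
    · beta_reduce
      rw [← ap_smul, smul_comm, ← hk, ← hm]
      exact Prod.ext (congrArg Hs.a b3) (congrArg Hs.b b3)
    · have := congrArg Hs.c b2
      rw [show z.a = 0 from congrArg Prod.fst z0, show z.b = 0 from congrArg Prod.snd z0] at this
      simpa [act, actF, el] using this

theorem exists_gen_pow {Ω : Type*} [Group Ω] {S E D : Subgroup Ω} {F : FusionSystem S} {z : Ω}
    (h : TV F p E D z) : ∃ γ, Gen F E γ ∧ γ ^ p = 1 := by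
  obtain ⟨x, x1, x2, x3⟩ := h.sat.exists_step h.ess
  obtain ⟨α, hα⟩ := h.sat.exists_gen h.ess
  have a : cA E x ^ p = 1 := by rw [← cA_pow x1.2, cA_eq_one_iff (pow_mem x1.2 p)]; exact h.comm x3
  have b : (α * cA E x * α⁻¹) ^ p = 1 := by rw [conj_pow, a]; simp
  refine ⟨_, (h.sat.gen_or_ext h.ess h.idx' (mul_mem (mul_mem hα.1 (cA_mem_autGroup F h.leS x1.1))
    hα.inv.1)).resolve_right fun ⟨β, _, e⟩ => h.cA_ne x1 x2 hα.inv (α.injective (Subtype.ext ?_)), b⟩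
  have := triv_of_prime (zpowers_le.2 h.memE) bot_le (by simp) ((relIndex_bot_left _).trans
    (card_zpowers_prime h.pow h.ne))
    (mem_stab_of_maps bot_le fun x hx => by rw [mem_bot.1 hx, (mulOn_fn _).map_one]; exact one_mem _)
    (h.stab_of_ext e).2 (k := 1) (by rwa [pow_one]) (mem_zpowers z)
  rw [mem_bot, inv_mul_eq_one, fn_of_mem _ h.memE] at this
  simpa using this.symm

theorem sub_of_eq (hp : p ≠ 2) (hF : Sat F p) (hD : Sat D p) (h1 : WF F = WF D) (h2 : RF F = RF D) :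
    F.IsSubsystemOf D := by
  refine hF.alperin_sub ?_
  rintro P (rfl | hP) α hα
  · exact mor_top_of hp h1.le (mor_fn le_rfl hα)
  obtain ⟨b, z, -, t⟩ := hF.tv_of_sq (idx_Z hp) hP
  obtain ⟨v, hv, rfl⟩ := exists_RF hp hF hP
  obtain ⟨-, z', -, t'⟩ := hD.tv_of_sq (idx_Z hp) (ess_of_RF hp hD (h2 ▸ hv))
  have k : ∀ β ∈ F.autGroup (Vs v), fn β z ∈ CS ⊤ ⊤ → β ∈ D.autGroup (Vs v) := fun β a c =>
    let ⟨γ, d, e⟩ := t.ext_of_mem a c
    ((mor_top_of hp h1.le ((mor_fn NS_le d).mono b.ge)).mono le_top).aut_mem' e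
  obtain ⟨γ, c, d⟩ := exists_gen_pow t
  obtain ⟨φ, -, f1, f2⟩ := t'.exists_SL2 (fun x => Subtype.ext (pow_p _)) (by
    have := CF.Fgs1.card_mul_relIndex t.leN
    rw [t.idx', b, card_top, card_H, pow_succ] at this
    exact Nat.eq_of_mul_eq_mul_right (Fact.out : p.Prime).pos this)
  refine mor_fn le_top ?_
  rcases t.key c hα with e | ⟨s, -, e⟩
  · exact k α hα e
  · have := k _ (mul_mem (mul_mem hα (cA_mem_autGroup F le_top trivial)) c.1) e
    rwa [mul_mem_cancel_right (f1 (f2 γ d)), mul_mem_cancel_right (cA_mem_autGroup D le_top trivial)] at this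

theorem eq_of_eq (hp : p ≠ 2) (hF : Sat F p) (hD : Sat D p) (h1 : WF F = WF D) (h2 : RF F = RF D) : F = D :=
  eq_of_sub (sub_of_eq hp hF hD h1 h2) (sub_of_eq hp hD hF h1.symm h2.symm)

theorem constrained_of_line (hp : p ≠ 2) (hF : Sat F p) (h : ∀ u ∈ RF F, ∀ v ∈ RF F, u.1 * v.2 = u.2 * v.1) :
    F.IsConstrained p := by
  by_cases n : ∃ E, F.IsEssential p E
  · obtain ⟨E, hE⟩ := n
    have k : ∀ P, F.IsEssential p P → P = E := fun P hP => by
      obtain ⟨u, hu, rfl⟩ := exists_RF hp hF hP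
      obtain ⟨v, hv, rfl⟩ := exists_RF hp hF hE
      obtain ⟨-, z, -, t⟩ := hF.tv_of_sq (idx_Z hp) hE
      exact (ess_eq hp t (x := el u 0) (h u hu v hv) hu.1).symm
    refine ⟨hF.sat, E, hF.normal_of_ess ?_, hE.1⟩
    rintro P (rfl | hP)
    · exact ⟨le_top, fun α a => (mem_stab_iff_img le_top).2 (k _ ((mor_fn le_rfl a).fiso.ess hF hE))⟩
    · obtain rfl := k P hP
      exact ⟨le_rfl, stab_self.ge.trans' le_top⟩
  · exact ⟨hF.sat, ⊤, hF.normal_top_of_no_ess (not_exists.1 n), centric_top F⟩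

section grp
variable {G : Type*} [Group G] {t : Hs (ZMod p) →* G} {H : Subgroup G}

theorem WF_eq (h : Real F p t H) : WF F = WG t H :=
  Subgroup.ext fun _ => ⟨fun a => let ⟨g, b, c⟩ := h.real a; ⟨g, b, fun x => c x trivial⟩,
    fun ⟨_, b, c⟩ => h.mor' le_rfl b (fun _ _ => trivial) fun x _ => c x⟩

theorem RF_eq (h : Real F p t H) : RF F = RG t H := by
  refine Set.ext fun v => and_congr_right fun _ => exists₂_congr fun c c' => ⟨fun ⟨f, a, b⟩ => ?_, fun ⟨g, a, b⟩ => ?_⟩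
  · obtain ⟨g, d, e⟩ := h.real a
    exact ⟨g, d, b ▸ e _ (mem_zpowers _)⟩
  · obtain ⟨f, d, e⟩ := h.mor (P := zpowers (el v c)) le_top a (by
      rintro _ ⟨k, rfl⟩
      simp only [map_zpow, ← conj_zpow, b]
      exact zpow_mem (mem_img_of_mem (mem_top _)) k)
    exact ⟨f, d, h.inj' trivial trivial ((e _ (mem_zpowers _)).symm.trans b)⟩

theorem Emb.exists_real (h : Emb t H) : ∃ F : FusionSystem (⊤ : Subgroup (Hs (ZMod p))), Real F p t H := by
  haveI := h.fin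
  have a := piso_hom t h.inj ⊤
  have b : (⊤ : Subgroup (Hs (ZMod p))).map t ≤ H := by rintro _ ⟨x, -, rfl⟩; exact h.mem x
  have c : SylIn p ((⊤ : Subgroup (Hs (ZMod p))).map t) H :=
    .of_not_dvd b (a.isPGroup fun x => ⟨1, Subtype.ext (by simpa using pow_p x.1)⟩) fun e => h.syl (by
      rw [← CF.Fgs1.card_mul_relIndex b, ← a.card_eq, card_top, card_H, pow_succ p 3]
      exact Nat.mul_dvd_mul_left _ e)
  haveI := fin_of_le b
  obtain ⟨F, e⟩ := exists_fiso (FG H _ b) a.symm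
  exact ⟨F, (e.symm' fun x hx => a.apply_pinv hx).toReal c⟩

theorem Emb.dat (h : Emb t H) (hp : p ≠ 2) : Dat (WG t H) (RG t H) :=
  let ⟨_, e⟩ := h.exists_real
  WF_eq e ▸ RF_eq e ▸ RV.dat hp e.sat

end grp

theorem Rz.dat {W : Subgroup (GL (Fin 2) (ZMod p))} {R : Set (ZMod p × ZMod p)} (hp : p ≠ 2) (h : Rz W R) :
    Dat W R := by
  obtain ⟨G, _, t, H, e, rfl, rfl⟩ := h
  exact e.dat hp

theorem Rz.real (hp : p ≠ 2) (hF : Sat F p) (h : Rz (WF F) (RF F)) :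
    ∃ (G : Type) (_ : Group G) (t : Hs (ZMod p) → G) (H : Subgroup G), Real F p t H := by
  obtain ⟨G, _, t, H, e, a, b⟩ := h
  obtain ⟨D, r⟩ := e.exists_real
  exact ⟨G, _, t, H, eq_of_eq hp r.sat hF ((WF_eq r).trans a) ((RF_eq r).trans b) ▸ r⟩

end CF.RV
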