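import Cfsg.Agent.RV.F2
import Cfsg.Agent.RV.C3
import Cfsg.Agent.RV.L1
import Cfsg.Agent.Fus.Xsp

/-! Saturated fusion systems over the extraspecial group of order `p³` and exponent `p`. -/

set_option autoImplicit false

namespace CF.RV

open Cfsg Cfsg.FusionSystem CF.Fus Subgroup
open scoped commutatorElement

universe u

variable {p : ℕ} [Fact p.Prime]

/-- the four finite groups that are needed for three or more essential lines -/
structure Wits : Prop where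
  w5 : Wit 5
  w13 : Wit 13
  w3a : ∃ (W : Subgroup (GL (Fin 2) (ZMod 3))) (R : Set (ZMod 3 × ZMod 3)), Rz W R ∧ Three R ∧ ¬ Big W
  w3b : ∃ (W : Subgroup (GL (Fin 2) (ZMod 3))) (R : Set (ZMod 3 × ZMod 3)), Rz W R ∧ Three R ∧ Big W

theorem Dat.rz {W : Subgroup (GL (Fin 2) (ZMod p))} {R : Set (ZMod p × ZMod p)} (h : Dat W R) (w : Wits)
    (hp : p ≠ 2) (hp7 : p ≠ 7) {u v : ZMod p × ZMod p} (hu : u ∈ R) (hv : v ∈ R) (n : u.1 * v.2 ≠ u.2 * v.1) :
    Rz W R := by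
  by_cases h3 : Three R
  · obtain ⟨W', R', a, b, c⟩ : ∃ (W' : Subgroup (GL (Fin 2) (ZMod p))) (R' : Set (ZMod p × ZMod p)), Rz W' R' ∧
        Three R' ∧ (p = 5 ∨ p = 13 ∨ (p = 3 ∧ (Big W ↔ Big W'))) := by
      rcases h.prime hp h3 with rfl | rfl | rfl | rfl
      · by_cases e : Big W
        · obtain ⟨W', R', a, b, c⟩ := w.w3b
          exact ⟨W', R', a, b, .inr (.inr ⟨rfl, iff_of_true e c⟩)⟩
        · obtain ⟨W', R', a, b, c⟩ := w.w3a
          exact ⟨W', R', a, b, .inr (.inr ⟨rfl, iff_of_false e c⟩)⟩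
      · obtain ⟨W', R', a, b⟩ := w.w5.rz hp
        exact ⟨W', R', a, b, .inl rfl⟩
      · exact (hp7 rfl).elim
      · obtain ⟨W', R', a, b⟩ := w.w13.rz hp
        exact ⟨W', R', a, b, .inr (.inl rfl)⟩
    obtain ⟨B, B', e, e'⟩ := h.uniq (a.dat hp) h3 b c
    exact .of_conj (B := B) (e ▸ e' ▸ a.conj B')
  · obtain ⟨B, full, sw, e, e'⟩ := h.two hp h3 hu hv n
    obtain ⟨W', a, b⟩ := rz_two hp full sw
    obtain rfl : W' = cW B W := Subgroup.ext fun A => (b A).trans (e' A).symm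
    exact .of_conj (B := B) (e ▸ a)

variable {Ω : Type u} [Group Ω] {S : Subgroup Ω} {F : FusionSystem S}

theorem realizable_of_real {G : Type*} [Group G] {t : Ω → G} {H : Subgroup G} (h : Real F p t H) :
    F.IsRealizable p := by
  haveI := h.fin
  have e : H ≃* Shrink.{u} H := Shrink.mulEquiv.symm
  have h1 := h.restrict.map (mulOn_hom e.toMonoidHom ⊤) fun s hs e' =>
    h.restrict.inj s hs (e.map_eq_one_iff.1 e')
  rw [img_hom, map_top_of_surjective _ e.surjective] at h1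
  exact ⟨_, _, Finite.of_equiv _ e.toEquiv, h1.mul.hom, (realized_iff _ h1.mul.hom_apply
    h1.mul.img_eq_range.symm).2 h1.iso, h1.mul.img_eq_range ▸ h1.syl.exists_sylow⟩

theorem exists_piso [Finite S] (hp : p ≠ 2) (hE : IsExtraspecial p S) (hc : Nat.card S = p ^ 3)
    (he : ∀ x ∈ S, x ^ p = 1) : ∃ t : Hs (ZMod p) → Ω, PIso t ⊤ S := by
  obtain ⟨z1, z2⟩ := xsp_facts hE
  obtain ⟨a, ha, b, hb, n⟩ : ∃ a ∈ S, ∃ b ∈ S, ⁅a⁻¹, b⁻¹⁆ ≠ 1 := by
    by_contra! k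
    rw [← z2, (commutator_eq_bot_iff_le_centralizer.2 fun x hx y hy => by
      simpa using (commutatorElement_eq_one_iff_commute.1 (k _ (S.inv_mem hy) _ (S.inv_mem hx))).eq), card_bot] at z1
    exact (Fact.out : p.Prime).one_lt.ne z1
  have m := z2.le (commutator_mem_commutator (S.inv_mem ha) (S.inv_mem hb))
  obtain ⟨k, hk⟩ := (Fact.out : p.Prime).odd_of_ne_two hp
  have e : (⁅a⁻¹, b⁻¹⁆ ^ (k + 1)) ^ 2 = ⁅a⁻¹, b⁻¹⁆ := by
    rw [← pow_mul, show (k + 1) * 2 = p + 1 by omega, pow_succ, he _ m.1, one_mul]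
  have m' := pow_mem m (k + 1)
  obtain ⟨t, t1, t2⟩ := Tri.exists_hom (a := a) (b := b) ⟨he a ha, he b hb, he _ m'.1,
    fun e' => n (by rw [← e, e', one_pow]), ((mem_CS.1 m').2 a ha).symm, ((mem_CS.1 m').2 b hb).symm, by
      rw [e, commutatorElement_def]; group⟩ hp
  have i := piso_hom t t1 ⊤
  refine ⟨t, eq_of_le_of_card_ge (H := map t ⊤) (K := S) ?_ (by rw [← i.card_eq, card_top, card_H, hc]) ▸ i⟩
  rintro _ ⟨⟨x, y, w⟩, -, rfl⟩
  obtain ⟨x, rfl⟩ := exists_cast x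
  obtain ⟨y, rfl⟩ := exists_cast y
  obtain ⟨w, rfl⟩ := exists_cast w
  rw [t2]
  exact mul_mem (mul_mem (zpow_mem ha x) (zpow_mem hb y)) (zpow_mem (CS_le m') _)

theorem Wits.realizable (w : Wits) (hF : Sat F p) (hp : p ≠ 2) (hp7 : p ≠ 7) (hE : IsExtraspecial p S)
    (hc : Nat.card S = p ^ 3) (he : Monoid.exponent S = p) : F.IsRealizable p := by
  haveI := hF.fin
  obtain ⟨t, ht⟩ := exists_piso hp hE hc fun x hx =>
    congrArg Subtype.val (he ▸ Monoid.pow_exponent_eq_one (⟨x, hx⟩ : S))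
  obtain ⟨D, e⟩ := exists_fiso F ht.symm
  have hD := e.sat' hF
  by_cases h : ∀ u ∈ RF D, ∀ v ∈ RF D, u.1 * v.2 = u.2 * v.1
  · obtain ⟨G, _, s, k⟩ := hF.exists_model (e.symm.constrained hD (constrained_of_line hp hD h))
    exact realizable_of_real k.real
  · push Not at h
    obtain ⟨u, hu, v, hv, n⟩ := h
    obtain ⟨G, _, s, H, k⟩ := ((dat hp hD).rz w hp hp7 hu hv n).real hp hD
    exact realizable_of_real (k.of_fiso e)

end CF.RV
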