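import Cfsg.Agent.Mon.Wp

/-! Elements of `Gt` for the subgroup `13^(1+2)` of the Monster. -/

set_option autoImplicit false
set_option maxRecDepth 100000

namespace CF.RV.M

open CF.Comp CF.Mon CF.Mon.Tr

noncomputable section

def rvg0 : El := ⟨[nat_lit 0xd2ed1409230749343dc161950b7984caa9b3, nat_lit 0xbb4ebd1016468691830767994eba6a7920b3, nat_lit 0x9f59f51002329cc47b1ae5250bade9684a33], [nat_lit 81920, nat_lit 86016, nat_lit 94208, nat_lit 102400, nat_lit 110592, nat_lit 178176, nat_lit 175104, nat_lit 168960, nat_lit 167424, nat_lit 161792, nat_lit 157760, nat_lit 153056, nat_lit 148288, nat_lit 144024, nat_lit 141660, nat_lit 138578, nat_lit 132166, nat_lit 2412, nat_lit 4768, nat_lit 11224, nat_lit 15712, nat_lit 18144, nat_lit 22144, nat_lit 24704, nat_lit 29952, nat_lit 34816, nat_lit 39936, nat_lit 43008, nat_lit 45586, nat_lit 41366, nat_lit 36898, nat_lit 32968, nat_lit 29044, nat_lit 24582, nat_lit 20612, nat_lit 16426, nat_lit 8193, nat_lit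 4112, nat_lit 425990, nat_lit 413700, nat_lit 405506, nat_lit 397312, nat_lit 155904, nat_lit 151872, nat_lit 147808, nat_lit 143456, nat_lit 139320, nat_lit 135232, nat_lit 131086, nat_lit 45071, nat_lit 40976, nat_lit 36943, nat_lit 28761]⟩
def rvg1 : El := ⟨[nat_lit 0x65c3ff0b9963be299954d5a2a33128084ae2, nat_lit 0xde1b218d4cc4380f9368484c6b55ae12a447, nat_lit 0xff03a4254358304a2b74e862560fb5d42, nat_lit 0x639c9a9dc14792cb332a9388b17402d50d12], [nat_lit 77824, nat_lit 90112, nat_lit 94208, nat_lit 98304, nat_lit 173056, nat_lit 168448, nat_lit 164096, nat_lit 159872, nat_lit 157376, nat_lit 152096, nat_lit 143904, nat_lit 141288, nat_lit 138022, nat_lit 132995, nat_lit 3488, nat_lit 8152, nat_lit 8736, nat_lit 15984, nat_lit 16640, nat_lit 21824, nat_lit 25344, nat_lit 30976, nat_lit 35328, nat_lit 47053, nat_lit 43208, nat_lit 38214, nat_lit 34029, nat_lit 29038, nat_lit 24878, nat_lit 20495, nat_lit 16388, nat_lit 12292, nat_lit 8202, nat_lit 4101,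 nat_lit 2, nat_lit 438282, nat_lit 430088, nat_lit 421894, nat_lit 413700, nat_lit 405506, nat_lit 397312, nat_lit 174080, nat_lit 171008, nat_lit 161536, nat_lit 157696, nat_lit 152896, nat_lit 149696, nat_lit 143648, nat_lit 140976, nat_lit 138944, nat_lit 134100]⟩
def rvg2 : El := ⟨[nat_lit 0x6a99397de06409ae02a71590670d2c9ab0b2, nat_lit 0xfcca57a1360acb311951849d5a3003bb487, nat_lit 0xb7ed4e024f168ac359432aba13251e6432ea, nat_lit 0x182b8161a44ab69178073b2845441cbb9c29], [nat_lit 73728, nat_lit 86016, nat_lit 90112, nat_lit 106496, nat_lit 110592, nat_lit 178176, nat_lit 167168, nat_lit 163584, nat_lit 156352, nat_lit 154880, nat_lit 148880, nat_lit 145896, nat_lit 142924, nat_lit 139004, nat_lit 133330, nat_lit 608, nat_lit 5596, nat_lit 10968, nat_lit 16176, nat_lit 19232, nat_lit 23552, nat_lit 24832, nat_lit 34816, nat_lit 43008, nat_lit 46124, nat_lit 41778, nat_lit 38217, nat_lit 32910, nat_lit 28948, nat_lit 24615, nat_lit 20560, nat_lit 16420,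 nat_lit 12417, nat_lit 4097, nat_lit 430088, nat_lit 421894, nat_lit 413700, nat_lit 405506, nat_lit 397312, nat_lit 160000, nat_lit 155904, nat_lit 148416, nat_lit 144208, nat_lit 139768, nat_lit 135540, nat_lit 131726, nat_lit 45438, nat_lit 41183]⟩
def rvh0 : El := ⟨[nat_lit 0xaf9cf96d90098c81a1a37924aaabd62838ec, nat_lit 0xed8d215a1901d147b5df168a612d40974886, nat_lit 0xbe42d4499681b6d01566e3a8a47c8178b034, nat_lit 0x9c9c65718ac84c400c8714a2d7391ed52e95], [nat_lit 65536, nat_lit 73728, nat_lit 77824, nat_lit 81920, nat_lit 90112, nat_lit 98304, nat_lit 102400, nat_lit 178176, nat_lit 173056, nat_lit 168448, nat_lit 167168, nat_lit 163072, nat_lit 155904, nat_lit 152928, nat_lit 149280, nat_lit 145336, nat_lit 142436, nat_lit 136594, nat_lit 131888, nat_lit 730, nat_lit 6968, nat_lit 8552, nat_lit 14944, nat_lit 20352, nat_lit 20672, nat_lit 25472, nat_lit 33792, nat_lit 37888, nat_lit 43008, nat_lit 47043, nat_lit 43726, nat_lit 38982, nat_lit 33499,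 nat_lit 29223, nat_lit 24867, nat_lit 20487, nat_lit 16454, nat_lit 12304, nat_lit 8225, nat_lit 8, nat_lit 430088, nat_lit 421894, nat_lit 413700, nat_lit 405506, nat_lit 397312, nat_lit 160512, nat_lit 156416, nat_lit 151744, nat_lit 147520, nat_lit 143856, nat_lit 139832, nat_lit 135968, nat_lit 131288, nat_lit 45066, nat_lit 41422, nat_lit 327680]⟩
def rvh1 : El := ⟨[nat_lit 0x1d7d215844f6a4c78a24ea8e64b514c05e05, nat_lit 0x214e1893a8fa94f11192c0350452e17b0c33, nat_lit 0x533ffa01ea49869269511830ca1d9cfba562, nat_lit 0xa5c9729855d68678af10da6d220034c247], [nat_lit 65536, nat_lit 69632, nat_lit 86016, nat_lit 98304, nat_lit 175104, nat_lit 171008, nat_lit 164096, nat_lit 161664, nat_lit 157760, nat_lit 152896, nat_lit 149712, nat_lit 143656, nat_lit 140976, nat_lit 138946, nat_lit 134101, nat_lit 1512, nat_lit 7364, nat_lit 11800, nat_lit 15600, nat_lit 20736, nat_lit 25088, nat_lit 29440, nat_lit 34304, nat_lit 46977, nat_lit 43936, nat_lit 38982, nat_lit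 33461, nat_lit 29189, nat_lit 24749, nat_lit 20485, nat_lit 16399, nat_lit 12295, nat_lit 8203, nat_lit 4105, nat_lit 8, nat_lit 438282, nat_lit 430088, nat_lit 421894, nat_lit 413700, nat_lit 405506, nat_lit 397312, nat_lit 157312, nat_lit 152064, nat_lit 143904, nat_lit 141288, nat_lit 138020, nat_lit 132994, nat_lit 327680]⟩
def rvh2 : El := ⟨[nat_lit 0x711eb4009cfb5211415275a88660c2d94ef5, nat_lit 0xb18181246167558548e6f409b2b84e0a28cb, nat_lit 0xe4dd440c0068d4b46d84a5cc891a1977b8f2], [nat_lit 69632, nat_lit 90112, nat_lit 94208, nat_lit 98304, nat_lit 178176, nat_lit 175104, nat_lit 168448, nat_lit 162432, nat_lit 156992, nat_lit 155040, nat_lit 148896, nat_lit 143976, nat_lit 141524, nat_lit 138796, nat_lit 132182, nat_lit 2710, nat_lit 6228, nat_lit 9672, nat_lit 13168, nat_lit 19392, nat_lit 21824, nat_lit 31488, nat_lit 34816, nat_lit 37888, nat_lit 46656, nat_lit 43897, nat_lit 37289, nat_lit 32964, nat_lit 28795, nat_lit 24766, nat_lit 20610,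 nat_lit 16430, nat_lit 12325, nat_lit 8202, nat_lit 4100, nat_lit 16, nat_lit 425990, nat_lit 413700, nat_lit 405506, nat_lit 397312, nat_lit 151616, nat_lit 147744, nat_lit 143728, nat_lit 139304, nat_lit 135264, nat_lit 131402, nat_lit 45136, nat_lit 41228, nat_lit 36946, nat_lit 28778, nat_lit 327680]⟩
def rvx : El := ⟨[nat_lit 0x8828b20daa728e717c9776918253a1432120, nat_lit 0x1112782c913799ca1b216b9d35686910088b, nat_lit 0x5093f66044f4a2b7844c45d95499cb2039a3], [nat_lit 69632, nat_lit 73728, nat_lit 77824, nat_lit 98304, nat_lit 106496, nat_lit 178176, nat_lit 174080, nat_lit 171008, nat_lit 161920, nat_lit 159232, nat_lit 152992, nat_lit 150496, nat_lit 145216, nat_lit 140284, nat_lit 137740, nat_lit 133361, nat_lit 3216, nat_lit 7524, nat_lit 10816, nat_lit 15040, nat_lit 19392, nat_lit 22144, nat_lit 25216, nat_lit 29184, nat_lit 34816, nat_lit 37888, nat_lit 43008, nat_lit 46105, nat_lit 41203, nat_lit 37073, nat_lit 32992, nat_lit 29042, nat_lit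 24882, nat_lit 20762, nat_lit 16430, nat_lit 12289, nat_lit 8209, nat_lit 4097, nat_lit 2, nat_lit 421894, nat_lit 413700, nat_lit 405506, nat_lit 397312, nat_lit 151680, nat_lit 147616, nat_lit 143456, nat_lit 139352, nat_lit 135284, nat_lit 131146, nat_lit 45297, nat_lit 41043, nat_lit 37041, nat_lit 32875, nat_lit 327680]⟩
def rvxi : El := ⟨[nat_lit 0x6f3f961d9c7202af616828c172bb4264aa68, nat_lit 0x9095503804e2a1e9336b48c98480eea0cd76, nat_lit 0xa999555d244abac2798a15012cba22798e0d], [nat_lit 86016, nat_lit 90112, nat_lit 106496, nat_lit 173056, nat_lit 171008, nat_lit 167680, nat_lit 163584, nat_lit 158592, nat_lit 154432, nat_lit 151440, nat_lit 145152, nat_lit 143140, nat_lit 138230, nat_lit 132632, nat_lit 2742, nat_lit 6104, nat_lit 9608, nat_lit 13712, nat_lit 18208, nat_lit 24192, nat_lit 25088, nat_lit 31488, nat_lit 33792, nat_lit 38912, nat_lit 43008, nat_lit 45213, nat_lit 41026, nat_lit 37321, nat_lit 33342, nat_lit 28765, nat_lit 24742,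 nat_lit 20507, nat_lit 16393, nat_lit 12291, nat_lit 4097, nat_lit 2, nat_lit 430086, nat_lit 413700, nat_lit 405506, nat_lit 397312, nat_lit 156160, nat_lit 148064, nat_lit 143984, nat_lit 139832, nat_lit 135748, nat_lit 131684, nat_lit 45135, nat_lit 41577, nat_lit 32769, nat_lit 28743, nat_lit 327680]⟩
def rvo : El := ⟨[nat_lit 0x81bb72749e2190b08ac28bcea0b28ed4b0d4, nat_lit 0x5aca561580a28e6f5c6f283426250e84d58e, nat_lit 0x81dde1acd65b305733c07849c11b50aa1229, nat_lit 0xaffa6a6ddd69c96863e9530467008a44c550], [nat_lit 69632, nat_lit 77824, nat_lit 81920, nat_lit 98304, nat_lit 102400, nat_lit 178176, nat_lit 175104, nat_lit 171520, nat_lit 165376, nat_lit 161280, nat_lit 155968, nat_lit 155456, nat_lit 148624, nat_lit 144928, nat_lit 143180, nat_lit 137510, nat_lit 133782, nat_lit 2902, nat_lit 6804, nat_lit 9080, nat_lit 14064, nat_lit 17312, nat_lit 23872, nat_lit 25344, nat_lit 29952, nat_lit 34304, nat_lit 38912, nat_lit 43008, nat_lit 46483, nat_lit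 43463, nat_lit 37103, nat_lit 32890, nat_lit 29258, nat_lit 24868, nat_lit 20508, nat_lit 16419, nat_lit 12292, nat_lit 8203, nat_lit 4097, nat_lit 2, nat_lit 438282, nat_lit 430088, nat_lit 421894, nat_lit 413700, nat_lit 405506, nat_lit 397312, nat_lit 169984, nat_lit 162048, nat_lit 158336, nat_lit 152576, nat_lit 150944, nat_lit 144288, nat_lit 141424, nat_lit 137444, nat_lit 327680]⟩
def rvoi : El := ⟨[nat_lit 0x774edea365783109999e7054ab10e2e22ac1, nat_lit 0xd4e847a10cb130f3182a82864f4b5d7b460a, nat_lit 0xccf0939de266d5c5541e04d8eb13248a1061, nat_lit 0x35366581a72a810d5502c89c85ba46eb2de2], [nat_lit 69632, nat_lit 77824, nat_lit 86016, nat_lit 90112, nat_lit 94208, nat_lit 102400, nat_lit 178176, nat_lit 170496, nat_lit 162176, nat_lit 158336, nat_lit 152608, nat_lit 150960, nat_lit 144288, nat_lit 141428, nat_lit 137444, nat_lit 131073, nat_lit 2902, nat_lit 6804, nat_lit 9080, nat_lit 14064, nat_lit 17312, nat_lit 23872, nat_lit 25344, nat_lit 29952,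 nat_lit 34304, nat_lit 38912, nat_lit 43008, nat_lit 46483, nat_lit 43463, nat_lit 37103, nat_lit 32890, nat_lit 29258, nat_lit 24868, nat_lit 20508, nat_lit 16419, nat_lit 12292, nat_lit 8203, nat_lit 4097, nat_lit 2, nat_lit 438282, nat_lit 430088, nat_lit 421894, nat_lit 413700, nat_lit 405506, nat_lit 397312, nat_lit 174080, nat_lit 171008, nat_lit 165376, nat_lit 161280, nat_lit 155904, nat_lit 155456, nat_lit 148608, nat_lit 144928, nat_lit 143176, nat_lit 137508, nat_lit 133782]⟩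

def rvT0 : BT El := (.node (nat_lit 4) (.node (nat_lit 2) (.node (nat_lit 1) (.leaf idE)
 (.leaf xoE))
 (.node (nat_lit 3) (.leaf iD2)
 (.leaf iD3)))
 (.node (nat_lit 6) (.node (nat_lit 5) (.leaf rvg0)
 (.leaf rvg1))
 (.node (nat_lit 7) (.leaf rvg2)
 (.leaf rvh0))))

theorem rvT0_ok : rvT0.all okB = true := by decide +kernel

def rvT1 : BT El := (.node (nat_lit 11) (.node (nat_lit 9) (.leaf rvh1)
 (.node (nat_lit 10) (.leaf rvh2)
 (.leaf rvx)))
 (.node (nat_lit 12) (.leaf rvxi)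
 (.node (nat_lit 13) (.leaf rvo)
 (.leaf rvoi))))

theorem rvT1_ok : rvT1.all okB = true := by decide +kernel

def rvT : BT El := (BT.node (nat_lit 8) rvT0 rvT1)

theorem rvT_base : Base rvT := ⟨(BT.all_node rvT0_ok rvT1_ok), rfl, rfl, rfl⟩

def rvP : List (List ℕ) := [[], [nat_lit 4, nat_lit 0, nat_lit 5, nat_lit 0, nat_lit 6], [nat_lit 7, nat_lit 0, nat_lit 8, nat_lit 0, nat_lit 9], [nat_lit 10], [nat_lit 11], [nat_lit 12], [nat_lit 13]]
def rvwi0 : List ℕ := [nat_lit 4, nat_lit 0, nat_lit 5, nat_lit 0, nat_lit 6, nat_lit 7, nat_lit 0, nat_lit 8, nat_lit 0, nat_lit 9]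
def rvwi1 : List ℕ := [nat_lit 10, nat_lit 11]
def rvwi2 : List ℕ := [nat_lit 12, nat_lit 13]
def rvwr0 : List ℕ := [nat_lit 11, nat_lit 4, nat_lit 0, nat_lit 5, nat_lit 0, nat_lit 6, nat_lit 11, nat_lit 7, nat_lit 0, nat_lit 8, nat_lit 0, nat_lit 9, nat_lit 10, nat_lit 4, nat_lit 0, nat_lit 5, nat_lit 0, nat_lit 6, nat_lit 10, nat_lit 7, nat_lit 0, nat_lit 8, nat_lit 0, nat_lit 9]
def rvwr1 : List ℕ := [nat_lit 10, nat_lit 10, nat_lit 10, nat_lit 12, nat_lit 4, nat_lit 0, nat_lit 5, nat_lit 0, nat_lit 6, nat_lit 10, nat_lit 7, nat_lit 0, nat_lit 8, nat_lit 0, nat_lit 9, nat_lit 12, nat_lit 4, nat_lit 0, nat_lit 5, nat_lit 0, nat_lit 6, nat_lit 10, nat_lit 7, nat_lit 0, nat_lit 8, nat_lit 0, nat_lit 9, nat_lit 12, nat_lit 4, nat_lit 0, nat_lit 5, nat_lit 0, nat_lit 6, nat_lit 10, nat_lit 7, nat_lit 0, nat_lit 8, nat_lit 0, nat_lit 9]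
def rvwr2 : List ℕ := [nat_lit 10, nat_lit 10, nat_lit 10, nat_lit 10, nat_lit 10, nat_lit 10, nat_lit 13, nat_lit 4, nat_lit 0, nat_lit 5, nat_lit 0, nat_lit 6, nat_lit 11, nat_lit 7, nat_lit 0, nat_lit 8, nat_lit 0, nat_lit 9, nat_lit 12, nat_lit 4, nat_lit 0, nat_lit 5, nat_lit 0, nat_lit 6, nat_lit 11, nat_lit 7, nat_lit 0, nat_lit 8, nat_lit 0, nat_lit 9, nat_lit 13, nat_lit 4, nat_lit 0, nat_lit 5, nat_lit 0, nat_lit 6, nat_lit 10, nat_lit 7, nat_lit 0, nat_lit 8, nat_lit 0, nat_lit 9, nat_lit 12, nat_lit 4, nat_lit 0, nat_lit 5, nat_lit 0, nat_lit 6, nat_lit 10, nat_lit 7, nat_lit 0, nat_lit 8, nat_lit 0, nat_lit 9]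
def rvwr3 : List ℕ := [nat_lit 10, nat_lit 10, nat_lit 10, nat_lit 10, nat_lit 10, nat_lit 10, nat_lit 10, nat_lit 10, nat_lit 10, nat_lit 10, nat_lit 10, nat_lit 10, nat_lit 10]
def rvwr4 : List ℕ := [nat_lit 12, nat_lit 12, nat_lit 12]
def rvwr5 : List ℕ := [nat_lit 13, nat_lit 11, nat_lit 12, nat_lit 10]
def rvI : List (List ℕ) := [rvwi0, rvwi1, rvwi2]
def rvW : List (List ℕ) := [rvwr0, rvwr1, rvwr2, rvwr3, rvwr4, rvwr5]

end

end CF.RV.M
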