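import Cfsg.Agent.RV.MD

set_option autoImplicit false
set_option maxRecDepth 100000

namespace CF.RV.M

open CF.Comp CF.Mon CF.Mon.Tr

noncomputable section

def prv0 : AP := ⟨[], [], (nat_lit 1124), ⟨[nat_lit 0, nat_lit 84, nat_lit 62], [nat_lit 11, nat_lit 62], ⟨[nat_lit 0x7a130ada4e22c5468620ba8a3998ec], [nat_lit 173056, nat_lit 169984, nat_lit 164096, nat_lit 162304, nat_lit 157440, nat_lit 155008, nat_lit 151168, nat_lit 145720, nat_lit 140976, nat_lit 136800, nat_lit 133148, nat_lit 902, nat_lit 5668, nat_lit 9136, nat_lit 12672, nat_lit 18176, nat_lit 21952, nat_lit 25600, nat_lit 29696, nat_lit 41854, nat_lit 38117, nat_lit 33016, nat_lit 29027, nat_lit 24871, nat_lit 20739, nat_lit 16387, nat_lit 12321, nat_lit 8256]⟩⟩⟩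
def lrv1 : List AP := [⟨[nat_lit 57, nat_lit 49], [], (nat_lit 122), ⟨[nat_lit 0, nat_lit 16, nat_lit 56], [nat_lit 0, nat_lit 12, nat_lit 59], ⟨[nat_lit 0x889f64994860e5521cab801d49b437], [nat_lit 174080, nat_lit 164352, nat_lit 161408, nat_lit 156736, nat_lit 152672, nat_lit 148944, nat_lit 143960, nat_lit 141008, nat_lit 136376, nat_lit 132429, nat_lit 116, nat_lit 5120, nat_lit 9040, nat_lit 12848, nat_lit 22400, nat_lit 25088, nat_lit 30208, nat_lit 41637, nat_lit 38162, nat_lit 33501, nat_lit 29267, nat_lit 24740, nat_lit 20493, nat_lit 16903, nat_lit 12291, nat_lit 8224]⟩⟩⟩,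
  ⟨[nat_lit 14, nat_lit 633], [], (nat_lit 1032), ⟨[nat_lit 0, nat_lit 40, nat_lit 57], [nat_lit 45, nat_lit 57], ⟨[nat_lit 0x1a21724576b0f35d9e351248852a5], [nat_lit 174080, nat_lit 168448, nat_lit 166144, nat_lit 163072, nat_lit 157824, nat_lit 152608, nat_lit 148944, nat_lit 144712, nat_lit 142108, nat_lit 137354, nat_lit 132544, nat_lit 1634, nat_lit 5444, nat_lit 9568, nat_lit 12352, nat_lit 17984, nat_lit 20608, nat_lit 24832, nat_lit 41938, nat_lit 38324, nat_lit 32970, nat_lit 28674, nat_lit 24859, nat_lit 20484, nat_lit 16451, nat_lit 12544, nat_lit 8226, nat_lit 4097, nat_lit 2]⟩⟩⟩]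
theorem srv1 : Suf rvT 19005990 (ldrop (lapp rvwi0 [1, 0, 1]) 7) (apW dcM prv0) (tgtN dcM prv0.e) := Suf.fin' (l := lrv1) (by decide +kernel)
def lrv0 : List AP := [⟨[nat_lit 15, nat_lit 631, nat_lit 17, nat_lit 39, nat_lit 632, nat_lit 37], [], (nat_lit 90), ⟨[nat_lit 0, nat_lit 22, nat_lit 68], [nat_lit 1, nat_lit 63], ⟨[nat_lit 0x389456340b83e8644871acdc4b0537], [nat_lit 168448, nat_lit 167168, nat_lit 162816, nat_lit 159104, nat_lit 155008, nat_lit 147552, nat_lit 147312, nat_lit 141400, nat_lit 136432, nat_lit 133428, nat_lit 434, nat_lit 5588, nat_lit 8280, nat_lit 13056, nat_lit 18048, nat_lit 21568, nat_lit 26112, nat_lit 29184, nat_lit 33280, nat_lit 37888, nat_lit 41326, nat_lit 37236, nat_lit 33535, nat_lit 28972, nat_lit 24605, nat_lit 20620, nat_lit 16395, nat_lit 12292, nat_lit 8193, nat_lit 4112, nat_lit 2]⟩⟩⟩,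
  ⟨[nat_lit 66, nat_lit 643, nat_lit 67, nat_lit 53], [], (nat_lit 566), ⟨[nat_lit 84, nat_lit 62], [nat_lit 0, nat_lit 86], ⟨[nat_lit 0x7a130ada4e22c5468620ba8a3998ec], [nat_lit 173056, nat_lit 169984, nat_lit 164096, nat_lit 162304, nat_lit 157440, nat_lit 155008, nat_lit 151184, nat_lit 145720, nat_lit 140976, nat_lit 136802, nat_lit 133149, nat_lit 902, nat_lit 5668, nat_lit 9136, nat_lit 12672, nat_lit 18176, nat_lit 21952, nat_lit 25600, nat_lit 29696, nat_lit 41854, nat_lit 38117, nat_lit 33016, nat_lit 29027, nat_lit 24871, nat_lit 20739, nat_lit 16387, nat_lit 12321, nat_lit 8256]⟩⟩⟩]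
theorem rvci0_0 : Suf rvT 19005990 (lapp rvwi0 [1, 0, 1]) (apW dcM q0) (tgtN dcM q0.e) := Suf.seg (l := lrv0) (by decide +kernel) srv1

def prv2 : AP := ⟨[], [], (nat_lit 1218), ⟨[nat_lit 0, nat_lit 1, nat_lit 94], [nat_lit 0, nat_lit 72, nat_lit 65], ⟨[nat_lit 0x5bcc58262e04ea7baacd43062a1241], [nat_lit 175104, nat_lit 167168, nat_lit 162176, nat_lit 157952, nat_lit 152192, nat_lit 147632, nat_lit 143448, nat_lit 142948, nat_lit 138320, nat_lit 132549, nat_lit 494, nat_lit 5572, nat_lit 8208, nat_lit 12320, nat_lit 22272, nat_lit 25856, nat_lit 30464, nat_lit 34304, nat_lit 41688, nat_lit 36866, nat_lit 32981, nat_lit 29055, nat_lit 24883, nat_lit 20548, nat_lit 16390, nat_lit 12416, nat_lit 8208, nat_lit 256]⟩⟩⟩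
def lrv3 : List AP := [⟨[nat_lit 100], [], (nat_lit 196), ⟨[nat_lit 9, nat_lit 46], [nat_lit 0, nat_lit 37, nat_lit 68], ⟨[nat_lit 0x14db719960252a894145731278bc36], [nat_lit 174080, nat_lit 168448, nat_lit 160640, nat_lit 156544, nat_lit 153216, nat_lit 147744, nat_lit 144928, nat_lit 140976, nat_lit 135466, nat_lit 132880, nat_lit 1720, nat_lit 5120, nat_lit 8520, nat_lit 13664, nat_lit 16832, nat_lit 22080, nat_lit 24960, nat_lit 30464, nat_lit 33280, nat_lit 41590, nat_lit 37178, nat_lit 32896, nat_lit 28718, nat_lit 25647, nat_lit 20619, nat_lit 16454, nat_lit 12311, nat_lit 8211]⟩⟩⟩,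
  ⟨[nat_lit 631, nat_lit 16, nat_lit 36], [], (nat_lit 1032), ⟨[nat_lit 0, nat_lit 84, nat_lit 67], [nat_lit 0, nat_lit 22, nat_lit 47], ⟨[nat_lit 0x1b435a11c53450253ec9580f094d97], [nat_lit 169472, nat_lit 164608, nat_lit 160640, nat_lit 156096, nat_lit 153088, nat_lit 150432, nat_lit 144720, nat_lit 140252, nat_lit 135982, nat_lit 131367, nat_lit 1124, nat_lit 4396, nat_lit 10000, nat_lit 13216, nat_lit 16448, nat_lit 20608, nat_lit 24704, nat_lit 30208, nat_lit 34304, nat_lit 37888, nat_lit 41317, nat_lit 37108, nat_lit 32794, nat_lit 28695, nat_lit 24592, nat_lit 21007, nat_lit 12323, nat_lit 8195]⟩⟩⟩]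
theorem srv3 : Suf rvT 19005990 (ldrop (lapp rvwi0 [2, 0, 1]) 7) (apW dcM prv2) (tgtN dcM prv2.e) := Suf.fin' (l := lrv3) (by decide +kernel)
def lrv2 : List AP := [⟨[nat_lit 38, nat_lit 39, nat_lit 632, nat_lit 630, nat_lit 38, nat_lit 36], [], (nat_lit 150), ⟨[nat_lit 0, nat_lit 40, nat_lit 63], [nat_lit 73, nat_lit 50], ⟨[nat_lit 0x9a5a289a14080b543e4352ec4732e7], [nat_lit 174080, nat_lit 168448, nat_lit 164352, nat_lit 160000, nat_lit 156672, nat_lit 152736, nat_lit 148656, nat_lit 145352, nat_lit 139384, nat_lit 135916, nat_lit 133073, nat_lit 158, nat_lit 4328, nat_lit 9680, nat_lit 13680, nat_lit 17408, nat_lit 20928, nat_lit 25984, nat_lit 30464, nat_lit 33280, nat_lit 37888, nat_lit 41330, nat_lit 37056, nat_lit 32952, nat_lit 28719, nat_lit 24608, nat_lit 20564, nat_lit 12419, nat_lit 8194, nat_lit 4097]⟩⟩⟩,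
  ⟨[nat_lit 78, nat_lit 83, nat_lit 645, nat_lit 84, nat_lit 107], [], (nat_lit 718), ⟨[nat_lit 1, nat_lit 94], [nat_lit 13, nat_lit 52], ⟨[nat_lit 0x5bcc58262e04ea7baacd43062a1241], [nat_lit 174080, nat_lit 166912, nat_lit 162048, nat_lit 158016, nat_lit 152224, nat_lit 147632, nat_lit 143440, nat_lit 142944, nat_lit 138322, nat_lit 132549, nat_lit 494, nat_lit 5572, nat_lit 8208, nat_lit 12320, nat_lit 22272, nat_lit 25856, nat_lit 30464, nat_lit 34304, nat_lit 41688, nat_lit 36866, nat_lit 32981, nat_lit 29055, nat_lit 24883, nat_lit 20548, nat_lit 16390, nat_lit 12416, nat_lit 8208, nat_lit 256]⟩⟩⟩]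
theorem rvci0_1 : Suf rvT 19005990 (lapp rvwi0 [2, 0, 1]) (iC2 :: apW dcM q0) (tgtN dcM q0.e) := Suf.seg (l := lrv2) (by decide +kernel) srv3

def prv4 : AP := ⟨[], [], (nat_lit 1222), ⟨[nat_lit 73, nat_lit 58], [nat_lit 25, nat_lit 56], ⟨[nat_lit 0x7d5b79450aa598e19ca2004c482e69], [nat_lit 173056, nat_lit 169984, nat_lit 164864, nat_lit 161280, nat_lit 157376, nat_lit 151648, nat_lit 147920, nat_lit 145200, nat_lit 141292, nat_lit 135380, nat_lit 131832, nat_lit 1928, nat_lit 6084, nat_lit 9752, nat_lit 13904, nat_lit 16896, nat_lit 22464, nat_lit 25344, nat_lit 29440, nat_lit 41614, nat_lit 37120, nat_lit 32844, nat_lit 29710, nat_lit 24583, nat_lit 20485, nat_lit 12548, nat_lit 8194, nat_lit 4097, nat_lit 2]⟩⟩⟩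
def lrv5 : List AP := [⟨[nat_lit 51], [], (nat_lit 122), ⟨[nat_lit 0, nat_lit 37, nat_lit 89], [nat_lit 0, nat_lit 5, nat_lit 56], ⟨[nat_lit 0x742c048ca1911535dcd58be82430ed], [nat_lit 173056, nat_lit 165120, nat_lit 161664, nat_lit 155840, nat_lit 152960, nat_lit 147840, nat_lit 147344, nat_lit 140904, nat_lit 135616, nat_lit 131354, nat_lit 484, nat_lit 5488, nat_lit 9280, nat_lit 12544, nat_lit 16672, nat_lit 21632, nat_lit 25856, nat_lit 29952, nat_lit 33792, nat_lit 41952, nat_lit 38248, nat_lit 34047, nat_lit 28712, nat_lit 24602, nat_lit 20493, nat_lit 16454, nat_lit 8194, nat_lit 4097]⟩⟩⟩,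
  ⟨[nat_lit 43, nat_lit 40], [], (nat_lit 1032), ⟨[nat_lit 0, nat_lit 13, nat_lit 64], [nat_lit 62], ⟨[nat_lit 0x3aaac8b5c35cd217d90524006b8a92], [nat_lit 168448, nat_lit 166400, nat_lit 163456, nat_lit 158272, nat_lit 155456, nat_lit 147680, nat_lit 145944, nat_lit 143188, nat_lit 135628, nat_lit 133942, nat_lit 492, nat_lit 4380, nat_lit 13712, nat_lit 16768, nat_lit 24960, nat_lit 29696, nat_lit 37888, nat_lit 41409, nat_lit 36917, nat_lit 33856, nat_lit 29053, nat_lit 24741, nat_lit 20483, nat_lit 16456, nat_lit 8193, nat_lit 4128]⟩⟩⟩]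
theorem srv5 : Suf rvT 19005990 (ldrop (lapp rvwi0 [3, 0, 1]) 7) (apW dcM prv4) (tgtN dcM prv4.e) := Suf.fin' (l := lrv5) (by decide +kernel)
def lrv4 : List AP := [⟨[nat_lit 14, nat_lit 631, nat_lit 17, nat_lit 42, nat_lit 40, nat_lit 14], [], (nat_lit 90), ⟨[nat_lit 0, nat_lit 29], [nat_lit 0, nat_lit 73, nat_lit 91], ⟨[nat_lit 0x11a0e6141308d7445daf492c78d64a], [nat_lit 169472, nat_lit 164864, nat_lit 162560, nat_lit 156096, nat_lit 153152, nat_lit 148832, nat_lit 144480, nat_lit 139816, nat_lit 136142, nat_lit 133062, nat_lit 1938, nat_lit 5416, nat_lit 8824, nat_lit 14272, nat_lit 16864, nat_lit 21888, nat_lit 26112, nat_lit 33792, nat_lit 37888, nat_lit 41712, nat_lit 38123, nat_lit 32936, nat_lit 28675, nat_lit 25621, nat_lit 20553, nat_lit 16389, nat_lit 12324, nat_lit 8208, nat_lit 4225]⟩⟩⟩,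
  ⟨[nat_lit 67, nat_lit 51, nat_lit 49, nat_lit 643], [], (nat_lit 716), ⟨[nat_lit 0, nat_lit 73, nat_lit 58], [nat_lit 0, nat_lit 4, nat_lit 47], ⟨[nat_lit 0x7d5b79450aa598e19ca2004c482e69], [nat_lit 169984, nat_lit 164864, nat_lit 161280, nat_lit 157312, nat_lit 151616, nat_lit 147920, nat_lit 145200, nat_lit 141288, nat_lit 135382, nat_lit 131833, nat_lit 1928, nat_lit 6084, nat_lit 9752, nat_lit 13904, nat_lit 16896, nat_lit 22464, nat_lit 25344, nat_lit 29440, nat_lit 41614, nat_lit 37120, nat_lit 32844, nat_lit 29710, nat_lit 24583, nat_lit 20485, nat_lit 12548, nat_lit 8194, nat_lit 4097, nat_lit 2]⟩⟩⟩]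
theorem rvci0_2 : Suf rvT 19005990 (lapp rvwi0 [3, 0, 1]) (iC3 :: apW dcM q0) (tgtN dcM q0.e) := Suf.seg (l := lrv4) (by decide +kernel) srv5

def prv6 : AP := ⟨[], [], (nat_lit 1088), ⟨[nat_lit 0, nat_lit 11, nat_lit 61], [nat_lit 0, nat_lit 35, nat_lit 92], ⟨[nat_lit 0x724530c1ea59aa869eec916d125003], [nat_lit 173056, nat_lit 168448, nat_lit 164608, nat_lit 157952, nat_lit 151744, nat_lit 148848, nat_lit 144392, nat_lit 139312, nat_lit 135256, nat_lit 132560, nat_lit 8, nat_lit 4684, nat_lit 9584, nat_lit 12304, nat_lit 16896, nat_lit 20992, nat_lit 25088, nat_lit 33280, nat_lit 37888, nat_lit 41664, nat_lit 38392, nat_lit 32818, nat_lit 28785, nat_lit 24615, nat_lit 20572, nat_lit 16427, nat_lit 12323, nat_lit 8259, nat_lit 4128, nat_lit 2]⟩⟩⟩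
def lrv7 : List AP := [⟨[nat_lit 55, nat_lit 640, nat_lit 51], [], (nat_lit 1040), ⟨[nat_lit 43, nat_lit 91], [nat_lit 26, nat_lit 56], ⟨[nat_lit 0x188018ce506bdcc314875a548b52f5], [nat_lit 171520, nat_lit 164096, nat_lit 160128, nat_lit 159040, nat_lit 152064, nat_lit 148976, nat_lit 146256, nat_lit 141368, nat_lit 137356, nat_lit 134184, nat_lit 1730, nat_lit 5688, nat_lit 9384, nat_lit 13424, nat_lit 16576, nat_lit 21056, nat_lit 24832, nat_lit 30208, nat_lit 33792, nat_lit 37888, nat_lit 41715, nat_lit 37221, nat_lit 33397, nat_lit 29703, nat_lit 24721, nat_lit 20495, nat_lit 16513, nat_lit 12321, nat_lit 8193, nat_lit 4]⟩⟩⟩,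
  ⟨[], [], (nat_lit 1034), ⟨[nat_lit 42, nat_lit 93], [nat_lit 72, nat_lit 70], ⟨[nat_lit 0xa5d638013121542b48cc785a8a9e6e], [nat_lit 173056, nat_lit 164864, nat_lit 160128, nat_lit 157568, nat_lit 151808, nat_lit 148256, nat_lit 145392, nat_lit 141164, nat_lit 136534, nat_lit 134570, nat_lit 1972, nat_lit 4684, nat_lit 8824, nat_lit 12816, nat_lit 18112, nat_lit 20800, nat_lit 26112, nat_lit 33280, nat_lit 41643, nat_lit 38124, nat_lit 33007, nat_lit 28987, nat_lit 24713, nat_lit 20746, nat_lit 16397, nat_lit 12307, nat_lit 8200]⟩⟩⟩]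
theorem srv7 : Suf rvT 2048 (ldrop (lapp rvwi0 [1, 0, 1]) 7) (apW dcM prv6) (tgtN dcM prv6.e) := Suf.fin' (l := lrv7) (by decide +kernel)
def lrv6 : List AP := [⟨[nat_lit 25, nat_lit 28, nat_lit 32, nat_lit 26, nat_lit 24], [], (nat_lit 118), ⟨[nat_lit 0, nat_lit 11, nat_lit 55], [nat_lit 14, nat_lit 94], ⟨[nat_lit 0x284c252e717daae21c609260865e8d], [nat_lit 173056, nat_lit 169984, nat_lit 165888, nat_lit 163584, nat_lit 159424, nat_lit 151904, nat_lit 150624, nat_lit 146520, nat_lit 140676, nat_lit 137884, nat_lit 132616, nat_lit 566, nat_lit 5112, nat_lit 10104, nat_lit 13712, nat_lit 18336, nat_lit 20672, nat_lit 25216, nat_lit 33280, nat_lit 37888, nat_lit 41892, nat_lit 38127, nat_lit 32885, nat_lit 28706, nat_lit 24610, nat_lit 20556, nat_lit 16647, nat_lit 12292, nat_lit 8201]⟩⟩⟩,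
  ⟨[nat_lit 639, nat_lit 66, nat_lit 72, nat_lit 73, nat_lit 53], [], (nat_lit 368), ⟨[nat_lit 11, nat_lit 61], [nat_lit 0, nat_lit 78, nat_lit 58], ⟨[nat_lit 0x724530c1ea59aa869eec916d125003], [nat_lit 173056, nat_lit 164352, nat_lit 158016, nat_lit 151744, nat_lit 148832, nat_lit 144384, nat_lit 139316, nat_lit 135258, nat_lit 132560, nat_lit 8, nat_lit 4684, nat_lit 9584, nat_lit 12304, nat_lit 16896, nat_lit 20992, nat_lit 25088, nat_lit 33280, nat_lit 37888, nat_lit 41664, nat_lit 38392, nat_lit 32818, nat_lit 28785, nat_lit 24615, nat_lit 20572, nat_lit 16427, nat_lit 12323, nat_lit 8259, nat_lit 4128, nat_lit 2]⟩⟩⟩]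
theorem rvci0_3 : Suf rvT 2048 (lapp rvwi0 [1, 0, 1]) (apW dcM q1) (tgtN dcM q1.e) := Suf.seg (l := lrv6) (by decide +kernel) srv7

theorem rvci1 : Chk rvT rvwi1 := .inr (by decide +kernel)

theorem rvci2 : Chk rvT rvwi2 := .inr (by decide +kernel)

def prv8 : AP := ⟨[nat_lit 232, nat_lit 664, nat_lit 666, nat_lit 229], [], (nat_lit 610), ⟨[nat_lit 0, nat_lit 5, nat_lit 58], [nat_lit 91], ⟨[nat_lit 0x9394ba3ef03582998983291b13d500], [nat_lit 175104, nat_lit 169984, nat_lit 166144, nat_lit 161280, nat_lit 158592, nat_lit 155520, nat_lit 147760, nat_lit 145768, nat_lit 140664, nat_lit 135682, nat_lit 132754, nat_lit 1896, nat_lit 4232, nat_lit 8824, nat_lit 13920, nat_lit 16704, nat_lit 21568, nat_lit 24832, nat_lit 29440, nat_lit 33280, nat_lit 37888, nat_lit 41816, nat_lit 38261, nat_lit 32800, nat_lit 28757, nat_lit 24584, nat_lit 20762, nat_lit 16418, nat_lit 12295, nat_lit 8200, nat_lit 4101]⟩⟩⟩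
def prv9 : AP := ⟨[nat_lit 285, nat_lit 673, nat_lit 671, nat_lit 293], [], (nat_lit 1160), ⟨[nat_lit 0, nat_lit 74, nat_lit 91], [nat_lit 0, nat_lit 15, nat_lit 93], ⟨[nat_lit 0xa346a4c4882be4c581d635eb0988e1], [nat_lit 170496, nat_lit 164864, nat_lit 160896, nat_lit 156480, nat_lit 153024, nat_lit 148352, nat_lit 144920, nat_lit 141084, nat_lit 135616, nat_lit 131288, nat_lit 1180, nat_lit 4608, nat_lit 8704, nat_lit 14160, nat_lit 17536, nat_lit 21824, nat_lit 24832, nat_lit 29952, nat_lit 41337, nat_lit 37264, nat_lit 33525, nat_lit 29311, nat_lit 24751, nat_lit 20624, nat_lit 16431, nat_lit 12324, nat_lit 4097, nat_lit 2]⟩⟩⟩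
def lrv10 : List AP := [⟨[nat_lit 357], [], (nat_lit 1124), ⟨[nat_lit 72, nat_lit 64], [nat_lit 73, nat_lit 93], ⟨[nat_lit 0x49a51acde1a28b7b019022c433b50e], [nat_lit 171008, nat_lit 164864, nat_lit 160512, nat_lit 159488, nat_lit 152352, nat_lit 147776, nat_lit 145544, nat_lit 142324, nat_lit 137764, nat_lit 134187, nat_lit 1530, nat_lit 5396, nat_lit 9904, nat_lit 14288, nat_lit 18112, nat_lit 20864, nat_lit 25472, nat_lit 28928, nat_lit 33280, nat_lit 37888, nat_lit 41259, nat_lit 37245, nat_lit 32965, nat_lit 28980, nat_lit 24722, nat_lit 20550, nat_lit 16397, nat_lit 12309, nat_lit 8194, nat_lit 4101]⟩⟩⟩,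
  ⟨[nat_lit 640, nat_lit 48], [], (nat_lit 122), ⟨[nat_lit 0, nat_lit 55], [nat_lit 0, nat_lit 88], ⟨[nat_lit 0xb540149907831f359544bd0626c9d1], [nat_lit 174080, nat_lit 164608, nat_lit 160768, nat_lit 155712, nat_lit 152096, nat_lit 149232, nat_lit 143544, nat_lit 140060, nat_lit 135712, nat_lit 132401, nat_lit 1004, nat_lit 6068, nat_lit 12800, nat_lit 18336, nat_lit 22400, nat_lit 25728, nat_lit 29952, nat_lit 41632, nat_lit 38304, nat_lit 33328, nat_lit 29736, nat_lit 24583, nat_lit 20742, nat_lit 16418, nat_lit 12417, nat_lit 8208, nat_lit 4128, nat_lit 8]⟩⟩⟩,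
  ⟨[nat_lit 632, nat_lit 630], [], (nat_lit 1032), ⟨[nat_lit 0, nat_lit 40, nat_lit 52], [nat_lit 0, nat_lit 42, nat_lit 58], ⟨[nat_lit 0xb4022649d75c535029a641de32ce84], [nat_lit 173056, nat_lit 168960, nat_lit 164096, nat_lit 160768, nat_lit 156800, nat_lit 151744, nat_lit 148208, nat_lit 145320, nat_lit 141120, nat_lit 135382, nat_lit 133117, nat_lit 606, nat_lit 5640, nat_lit 8208, nat_lit 12416, nat_lit 16512, nat_lit 20608, nat_lit 26496, nat_lit 33280, nat_lit 37888, nat_lit 41793, nat_lit 37989, nat_lit 33316, nat_lit 28776, nat_lit 24715, nat_lit 20567, nat_lit 16428, nat_lit 12304, nat_lit 8225, nat_lit 4161, nat_lit 4]⟩⟩⟩]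
theorem srv10 : Suf rvT 19005990 (ldrop (lapp rvwr0 [1, 0, 1]) 17) (apW dcM prv9) (tgtN dcM prv9.e) := Suf.fin' (l := lrv10) (by decide +kernel)
def lrv9 : List AP := [⟨[nat_lit 356, nat_lit 672, nat_lit 669, nat_lit 285, nat_lit 284], [], (nat_lit 1160), ⟨[nat_lit 0, nat_lit 9, nat_lit 64], [nat_lit 0, nat_lit 82, nat_lit 54], ⟨[nat_lit 0xb082789a9278e082a557ab584981cb], [nat_lit 174080, nat_lit 168448, nat_lit 164864, nat_lit 161664, nat_lit 156608, nat_lit 153408, nat_lit 148656, nat_lit 143736, nat_lit 141148, nat_lit 135948, nat_lit 132648, nat_lit 986, nat_lit 5228, nat_lit 9136, nat_lit 13424, nat_lit 17408, nat_lit 21696, nat_lit 24832, nat_lit 29184, nat_lit 34304, nat_lit 41963, nat_lit 37899, nat_lit 33315, nat_lit 28945, nat_lit 24722, nat_lit 20501, nat_lit 13318, nat_lit 8195, nat_lit 4101, nat_lit 4]⟩⟩⟩,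
  ⟨[nat_lit 352, nat_lit 287, nat_lit 291, nat_lit 289], [], (nat_lit 777), ⟨[nat_lit 0, nat_lit 19], [nat_lit 23, nat_lit 63], ⟨[nat_lit 0xdcc135e15a4e6b5e7151504aca90], [nat_lit 168448, nat_lit 165888, nat_lit 162816, nat_lit 158016, nat_lit 153728, nat_lit 146464, nat_lit 142280, nat_lit 136822, nat_lit 133634, nat_lit 428, nat_lit 5996, nat_lit 10088, nat_lit 14144, nat_lit 16448, nat_lit 22016, nat_lit 28928, nat_lit 33280, nat_lit 37888, nat_lit 41921, nat_lit 36969, nat_lit 33920, nat_lit 29696, nat_lit 24583, nat_lit 21018, nat_lit 16385, nat_lit 12803, nat_lit 8258, nat_lit 4105]⟩⟩⟩]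
theorem srv9 : Suf rvT 19005990 (ldrop (lapp rvwr0 [1, 0, 1]) 9) (apW dcM prv8) (tgtN dcM prv8.e) := Suf.seg (l := lrv9) (by decide +kernel) srv10
def lrv8 : List AP := [⟨[nat_lit 43, nat_lit 43, nat_lit 630, nat_lit 14, nat_lit 633, nat_lit 14], [], (nat_lit 150), ⟨[nat_lit 84, nat_lit 66], [nat_lit 39, nat_lit 49], ⟨[nat_lit 0x11d317516a2d4cc6d860222617de50], [nat_lit 168960, nat_lit 164864, nat_lit 160896, nat_lit 157120, nat_lit 154368, nat_lit 148864, nat_lit 143648, nat_lit 140028, nat_lit 135772, nat_lit 132245, nat_lit 1076, nat_lit 9056, nat_lit 14144, nat_lit 16672, nat_lit 20992, nat_lit 25088, nat_lit 30464, nat_lit 34304, nat_lit 41248, nat_lit 37018, nat_lit 33909, nat_lit 29217, nat_lit 24615, nat_lit 16521, nat_lit 8258, nat_lit 4112, nat_lit 4]⟩⟩⟩,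
  ⟨[nat_lit 84, nat_lit 84, nat_lit 81, nat_lit 77, nat_lit 85], [], (nat_lit 534), ⟨[nat_lit 17, nat_lit 89], [nat_lit 0, nat_lit 87, nat_lit 91], ⟨[nat_lit 0x801e965dc4445a1a9862a4a65558eb], [nat_lit 175104, nat_lit 159872, nat_lit 157760, nat_lit 153728, nat_lit 149792, nat_lit 145176, nat_lit 141584, nat_lit 135292, nat_lit 134927, nat_lit 1966, nat_lit 4328, nat_lit 9928, nat_lit 12464, nat_lit 17312, nat_lit 21312, nat_lit 30208, nat_lit 33792, nat_lit 41619, nat_lit 38348, nat_lit 32847, nat_lit 29729, nat_lit 24611, nat_lit 20501, nat_lit 16387, nat_lit 12545]⟩⟩⟩]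
theorem rvcr0_0 : Suf rvT 19005990 (lapp rvwr0 [1, 0, 1]) (apW dcM q0) (tgtN dcM q0.e) := Suf.seg (l := lrv8) (by decide +kernel) srv9

def prv11 : AP := ⟨[nat_lit 289, nat_lit 295, nat_lit 670, nat_lit 354], [], (nat_lit 698), ⟨[nat_lit 0, nat_lit 40, nat_lit 53], [nat_lit 34, nat_lit 65], ⟨[nat_lit 0x232ef8240e68a4bac4f351a88b04a3], [nat_lit 175104, nat_lit 165888, nat_lit 162432, nat_lit 158592, nat_lit 152544, nat_lit 148368, nat_lit 144464, nat_lit 142756, nat_lit 139136, nat_lit 133029, nat_lit 688, nat_lit 5444, nat_lit 9664, nat_lit 12416, nat_lit 17248, nat_lit 22336, nat_lit 26112, nat_lit 28928, nat_lit 37888, nat_lit 41346, nat_lit 37203, nat_lit 32985, nat_lit 28770, nat_lit 24756, nat_lit 20490, nat_lit 16452, nat_lit 12291, nat_lit 8]⟩⟩⟩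
def prv12 : AP := ⟨[nat_lit 664, nat_lit 667, nat_lit 266, nat_lit 262, nat_lit 225], [], (nat_lit 638), ⟨[nat_lit 0, nat_lit 2, nat_lit 66], [nat_lit 1, nat_lit 94], ⟨[nat_lit 0x329a23de240da0042e929d5ec28d2e], [nat_lit 175104, nat_lit 168960, nat_lit 165376, nat_lit 159872, nat_lit 158528, nat_lit 154080, nat_lit 150608, nat_lit 144000, nat_lit 143052, nat_lit 135956, nat_lit 133267, nat_lit 960, nat_lit 4720, nat_lit 10168, nat_lit 12416, nat_lit 17504, nat_lit 22272, nat_lit 25472, nat_lit 29440, nat_lit 33280, nat_lit 41406, nat_lit 37261, nat_lit 32909, nat_lit 28773, nat_lit 24637, nat_lit 20556, nat_lit 16395, nat_lit 12293, nat_lit 8193, nat_lit 4097]⟩⟩⟩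
def lrv13 : List AP := [⟨[nat_lit 294, nat_lit 354, nat_lit 354], [], (nat_lit 1218), ⟨[nat_lit 75, nat_lit 89], [nat_lit 17, nat_lit 90], ⟨[nat_lit 0x6aec5aa5c704271b994f0887241194], [nat_lit 174080, nat_lit 166144, nat_lit 162176, nat_lit 157760, nat_lit 152800, nat_lit 148512, nat_lit 143472, nat_lit 142364, nat_lit 137688, nat_lit 132551, nat_lit 1214, nat_lit 4396, nat_lit 10144, nat_lit 13792, nat_lit 20608, nat_lit 25984, nat_lit 28928, nat_lit 33280, nat_lit 41518, nat_lit 37150, nat_lit 33436, nat_lit 28770, nat_lit 24713, nat_lit 20545, nat_lit 16900, nat_lit 12290, nat_lit 8704, nat_lit 4100, nat_lit 64]⟩⟩⟩,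
  ⟨[], [], (nat_lit 151), ⟨[nat_lit 32, nat_lit 57], [nat_lit 8, nat_lit 68], ⟨[nat_lit 0xa2226b81b61148e4ad81941e354ea7], [nat_lit 173056, nat_lit 168960, nat_lit 164096, nat_lit 160896, nat_lit 156096, nat_lit 152928, nat_lit 148096, nat_lit 145168, nat_lit 140884, nat_lit 135192, nat_lit 134861, nat_lit 1174, nat_lit 5856, nat_lit 9384, nat_lit 13088, nat_lit 18112, nat_lit 22272, nat_lit 26368, nat_lit 29952, nat_lit 34304, nat_lit 41343, nat_lit 36932, nat_lit 32989, nat_lit 28970, nat_lit 24600, nat_lit 20511, nat_lit 16391, nat_lit 12325, nat_lit 8194, nat_lit 16]⟩⟩⟩,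
  ⟨[nat_lit 39, nat_lit 629], [], (nat_lit 1032), ⟨[nat_lit 0, nat_lit 77, nat_lit 49], [nat_lit 16, nat_lit 60], ⟨[nat_lit 0x2e9165aa794cce43caa826e32082d], [nat_lit 170496, nat_lit 164096, nat_lit 161920, nat_lit 156224, nat_lit 155040, nat_lit 151344, nat_lit 146360, nat_lit 141016, nat_lit 135542, nat_lit 133182, nat_lit 494, nat_lit 4100, nat_lit 9040, nat_lit 12304, nat_lit 16896, nat_lit 21824, nat_lit 25344, nat_lit 29952, nat_lit 33280, nat_lit 37888, nat_lit 41873, nat_lit 37150, nat_lit 33456, nat_lit 28684, nat_lit 24610, nat_lit 20561, nat_lit 16424, nat_lit 12304, nat_lit 8195, nat_lit 4100, nat_lit 2]⟩⟩⟩]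
theorem srv13 : Suf rvT 19005990 (ldrop (lapp rvwr0 [2, 0, 1]) 17) (apW dcM prv12) (tgtN dcM prv12.e) := Suf.fin' (l := lrv13) (by decide +kernel)
def lrv12 : List AP := [⟨[nat_lit 259, nat_lit 664, nat_lit 262, nat_lit 225], [], (nat_lit 510), ⟨[nat_lit 43, nat_lit 94], [nat_lit 44, nat_lit 60], ⟨[nat_lit 0x482058888a0d86e3dccda3e724558b], [nat_lit 168448, nat_lit 164608, nat_lit 156160, nat_lit 151680, nat_lit 149488, nat_lit 144520, nat_lit 143132, nat_lit 135206, nat_lit 132588, nat_lit 1336, nat_lit 4408, nat_lit 8928, nat_lit 13728, nat_lit 17152, nat_lit 21056, nat_lit 26368, nat_lit 28928, nat_lit 41324, nat_lit 37044, nat_lit 32977, nat_lit 28715, nat_lit 24870, nat_lit 20484, nat_lit 16451, nat_lit 12423, nat_lit 8195, nat_lit 4]⟩⟩⟩,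
  ⟨[nat_lit 666, nat_lit 223, nat_lit 222, nat_lit 227], [], (nat_lit 544), ⟨[nat_lit 85, nat_lit 69], [nat_lit 0, nat_lit 32, nat_lit 60], ⟨[nat_lit 0x84c02391af426f6a2eaa614ce08e32], [nat_lit 173056, nat_lit 169472, nat_lit 165632, nat_lit 160896, nat_lit 156224, nat_lit 153088, nat_lit 150640, nat_lit 144664, nat_lit 140672, nat_lit 137212, nat_lit 132916, nat_lit 1810, nat_lit 4608, nat_lit 10168, nat_lit 12800, nat_lit 16896, nat_lit 21888, nat_lit 25216, nat_lit 29952, nat_lit 33792, nat_lit 37888, nat_lit 41872, nat_lit 37079, nat_lit 33921, nat_lit 29255, nat_lit 24632, nat_lit 20492, nat_lit 16396, nat_lit 12310, nat_lit 8208, nat_lit 4104, nat_lit 256]⟩⟩⟩]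
theorem srv12 : Suf rvT 19005990 (ldrop (lapp rvwr0 [2, 0, 1]) 9) (apW dcM prv11) (tgtN dcM prv11.e) := Suf.seg (l := lrv12) (by decide +kernel) srv13
def lrv11 : List AP := [⟨[nat_lit 16, nat_lit 629, nat_lit 16, nat_lit 630, nat_lit 43], [], (nat_lit 123), ⟨[nat_lit 27, nat_lit 56], [nat_lit 5, nat_lit 51], ⟨[nat_lit 0xa80c555d029ade7659a3a061171132], [nat_lit 175104, nat_lit 169472, nat_lit 164608, nat_lit 160256, nat_lit 158720, nat_lit 153600, nat_lit 149584, nat_lit 144496, nat_lit 143016, nat_lit 136374, nat_lit 133583, nat_lit 1140, nat_lit 5572, nat_lit 10144, nat_lit 12304, nat_lit 16896, nat_lit 22272, nat_lit 24704, nat_lit 33280, nat_lit 41959, nat_lit 37121, nat_lit 33304, nat_lit 28737, nat_lit 24740, nat_lit 20548, nat_lit 16648, nat_lit 12548, nat_lit 8200, nat_lit 4097]⟩⟩⟩,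
  ⟨[nat_lit 641, nat_lit 49, nat_lit 48, nat_lit 71, nat_lit 71], [], (nat_lit 566), ⟨[nat_lit 45, nat_lit 66], [nat_lit 23, nat_lit 66], ⟨[nat_lit 0x1a0f1a455bc66a2d8883864e62db4], [nat_lit 174080, nat_lit 169472, nat_lit 167680, nat_lit 162816, nat_lit 157760, nat_lit 152192, nat_lit 149328, nat_lit 143440, nat_lit 142376, nat_lit 138174, nat_lit 131754, nat_lit 460, nat_lit 5604, nat_lit 9752, nat_lit 13552, nat_lit 17760, nat_lit 21888, nat_lit 26240, nat_lit 29952, nat_lit 41900, nat_lit 38370, nat_lit 32930, nat_lit 28706, nat_lit 24633, nat_lit 20547, nat_lit 16398, nat_lit 4097, nat_lit 2]⟩⟩⟩]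
theorem rvcr0_1 : Suf rvT 19005990 (lapp rvwr0 [2, 0, 1]) (iC2 :: apW dcM q0) (tgtN dcM q0.e) := Suf.seg (l := lrv11) (by decide +kernel) srv12

def prv14 : AP := ⟨[nat_lit 141, nat_lit 143, nat_lit 149, nat_lit 141, nat_lit 147], [], (nat_lit 1058), ⟨[nat_lit 43, nat_lit 60], [nat_lit 0, nat_lit 8, nat_lit 94], ⟨[nat_lit 0x1dcf6de2ba4d4cb10754890534241], [nat_lit 175104, nat_lit 168960, nat_lit 165120, nat_lit 161280, nat_lit 159680, nat_lit 154016, nat_lit 150640, nat_lit 143368, nat_lit 141596, nat_lit 136008, nat_lit 134181, nat_lit 1142, nat_lit 8912, nat_lit 13152, nat_lit 16416, nat_lit 22208, nat_lit 24704, nat_lit 28928, nat_lit 41015, nat_lit 36867, nat_lit 32966, nat_lit 28997, nat_lit 24863, nat_lit 21532, nat_lit 16458, nat_lit 12320, nat_lit 8449, nat_lit 4097]⟩⟩⟩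
def prv15 : AP := ⟨[nat_lit 289, nat_lit 288, nat_lit 354, nat_lit 284], [], (nat_lit 770), ⟨[nat_lit 85, nat_lit 92], [nat_lit 82, nat_lit 65], ⟨[nat_lit 0x3408b621d2552d1134b5980293bc77], [nat_lit 173056, nat_lit 166656, nat_lit 161408, nat_lit 155968, nat_lit 152288, nat_lit 149088, nat_lit 144160, nat_lit 141160, nat_lit 136284, nat_lit 131369, nat_lit 1396, nat_lit 4576, nat_lit 9032, nat_lit 12544, nat_lit 17728, nat_lit 22336, nat_lit 26496, nat_lit 30464, nat_lit 33280, nat_lit 41021, nat_lit 37244, nat_lit 32831, nat_lit 28706, nat_lit 25148, nat_lit 20506, nat_lit 16420, nat_lit 12291, nat_lit 8210, nat_lit 4105]⟩⟩⟩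
def lrv16 : List AP := [⟨[nat_lit 293, nat_lit 288], [], (nat_lit 1222), ⟨[nat_lit 15, nat_lit 52], [nat_lit 0, nat_lit 83, nat_lit 90], ⟨[nat_lit 0x1a9b424528b2c0e98827915ec85cd5], [nat_lit 173056, nat_lit 169984, nat_lit 164608, nat_lit 161152, nat_lit 156416, nat_lit 152064, nat_lit 148160, nat_lit 144848, nat_lit 139996, nat_lit 135400, nat_lit 131219, nat_lit 1250, nat_lit 5268, nat_lit 9336, nat_lit 13792, nat_lit 16640, nat_lit 20992, nat_lit 24832, nat_lit 33792, nat_lit 37888, nat_lit 41600, nat_lit 37202, nat_lit 33367, nat_lit 28680, nat_lit 25106, nat_lit 16904, nat_lit 12306, nat_lit 8450, nat_lit 4101]⟩⟩⟩,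
  ⟨[nat_lit 55, nat_lit 47], [], (nat_lit 122), ⟨[nat_lit 0, nat_lit 88, nat_lit 70], [nat_lit 15, nat_lit 46], ⟨[nat_lit 0xb5193344afaa8835b93000a4d45ce1], [nat_lit 171520, nat_lit 156992, nat_lit 152640, nat_lit 147904, nat_lit 144016, nat_lit 141276, nat_lit 136852, nat_lit 133010, nat_lit 1180, nat_lit 4608, nat_lit 8424, nat_lit 13920, nat_lit 18272, nat_lit 20864, nat_lit 24832, nat_lit 33280, nat_lit 41100, nat_lit 36992, nat_lit 32832, nat_lit 29184, nat_lit 24840, nat_lit 20499, nat_lit 16385, nat_lit 12352, nat_lit 9217, nat_lit 4097, nat_lit 2]⟩⟩⟩,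
  ⟨[nat_lit 42, nat_lit 16, nat_lit 36], [], (nat_lit 1032), ⟨[nat_lit 0, nat_lit 85, nat_lit 61], [nat_lit 0, nat_lit 73, nat_lit 91], ⟨[nat_lit 0x95994136605450e81de459ae3286a9], [nat_lit 168960, nat_lit 166912, nat_lit 161920, nat_lit 158912, nat_lit 154944, nat_lit 147472, nat_lit 147240, nat_lit 143012, nat_lit 136880, nat_lit 134234, nat_lit 1066, nat_lit 5900, nat_lit 9664, nat_lit 12864, nat_lit 17664, nat_lit 20608, nat_lit 26240, nat_lit 28928, nat_lit 41355, nat_lit 37038, nat_lit 33808, nat_lit 28995, nat_lit 24620, nat_lit 20491, nat_lit 16523, nat_lit 12291, nat_lit 8193]⟩⟩⟩]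
theorem srv16 : Suf rvT 19005990 (ldrop (lapp rvwr0 [3, 0, 1]) 17) (apW dcM prv15) (tgtN dcM prv15.e) := Suf.fin' (l := lrv16) (by decide +kernel)
def lrv15 : List AP := [⟨[nat_lit 669, nat_lit 673, nat_lit 670, nat_lit 352], [], (nat_lit 682), ⟨[nat_lit 0, nat_lit 11, nat_lit 46], [nat_lit 0, nat_lit 38, nat_lit 64], ⟨[nat_lit 0x3a2431155149200bb9ec9ac26b36b4], [nat_lit 173056, nat_lit 168448, nat_lit 164864, nat_lit 163328, nat_lit 156736, nat_lit 152672, nat_lit 148544, nat_lit 145280, nat_lit 141208, nat_lit 136504, nat_lit 131869, nat_lit 1730, nat_lit 5900, nat_lit 9040, nat_lit 12320, nat_lit 16480, nat_lit 20608, nat_lit 25600, nat_lit 29696, nat_lit 33280, nat_lit 37888, nat_lit 41222, nat_lit 37297, nat_lit 33379, nat_lit 28702, nat_lit 24850, nat_lit 20488, nat_lit 16526, nat_lit 12327, nat_lit 8200, nat_lit 4100, nat_lit 2]⟩⟩⟩,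
  ⟨[nat_lit 226, nat_lit 665, nat_lit 231, nat_lit 233, nat_lit 222], [], (nat_lit 638), ⟨[nat_lit 0, nat_lit 42, nat_lit 59], [nat_lit 8, nat_lit 60], ⟨[nat_lit 0xb86422c6a4741969ae8953cc3680e8], [nat_lit 170496, nat_lit 165376, nat_lit 160000, nat_lit 157440, nat_lit 151584, nat_lit 147680, nat_lit 144360, nat_lit 140656, nat_lit 136568, nat_lit 131287, nat_lit 1438, nat_lit 5276, nat_lit 8680, nat_lit 12544, nat_lit 16640, nat_lit 21184, nat_lit 30464, nat_lit 33280, nat_lit 37888, nat_lit 41896, nat_lit 37013, nat_lit 32858, nat_lit 29205, nat_lit 24842, nat_lit 20492, nat_lit 16456, nat_lit 12311, nat_lit 8200, nat_lit 4100, nat_lit 2]⟩⟩⟩]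
theorem srv15 : Suf rvT 19005990 (ldrop (lapp rvwr0 [3, 0, 1]) 9) (apW dcM prv14) (tgtN dcM prv14.e) := Suf.seg (l := lrv15) (by decide +kernel) srv16
def lrv14 : List AP := [⟨[nat_lit 38, nat_lit 40, nat_lit 630, nat_lit 37, nat_lit 36], [], (nat_lit 70), ⟨[nat_lit 0, nat_lit 22, nat_lit 53], [nat_lit 0, nat_lit 28, nat_lit 50], ⟨[nat_lit 0x4beb48322ab8e440b80b434a699c56], [nat_lit 173056, nat_lit 167680, nat_lit 161536, nat_lit 156160, nat_lit 155360, nat_lit 150128, nat_lit 147184, nat_lit 142196, nat_lit 138540, nat_lit 132127, nat_lit 902, nat_lit 4408, nat_lit 10008, nat_lit 13760, nat_lit 18112, nat_lit 21504, nat_lit 25088, nat_lit 29696, nat_lit 37888, nat_lit 41357, nat_lit 36894, nat_lit 33905, nat_lit 28702, nat_lit 24595, nat_lit 20510, nat_lit 16398, nat_lit 12305, nat_lit 8195]⟩⟩⟩,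
  ⟨[nat_lit 32, nat_lit 32, nat_lit 28, nat_lit 26, nat_lit 24], [], (nat_lit 276), ⟨[nat_lit 30, nat_lit 66], [nat_lit 0, nat_lit 42, nat_lit 67], ⟨[nat_lit 0xa80cb20d146a62a60a41b5e0e79cb3], [nat_lit 173056, nat_lit 168448, nat_lit 165120, nat_lit 161280, nat_lit 156480, nat_lit 151712, nat_lit 148912, nat_lit 146640, nat_lit 140192, nat_lit 135610, nat_lit 131305, nat_lit 582, nat_lit 4952, nat_lit 8552, nat_lit 14304, nat_lit 18112, nat_lit 22336, nat_lit 26496, nat_lit 29184, nat_lit 34304, nat_lit 37888, nat_lit 41507, nat_lit 38283, nat_lit 32914, nat_lit 29050, nat_lit 24584, nat_lit 20490, nat_lit 16388, nat_lit 12322, nat_lit 8209, nat_lit 4128]⟩⟩⟩]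
theorem rvcr0_2 : Suf rvT 19005990 (lapp rvwr0 [3, 0, 1]) (iC3 :: apW dcM q0) (tgtN dcM q0.e) := Suf.seg (l := lrv14) (by decide +kernel) srv15

def prv17 : AP := ⟨[nat_lit 673, nat_lit 294, nat_lit 356, nat_lit 291], [], (nat_lit 782), ⟨[nat_lit 0, nat_lit 44, nat_lit 50], [nat_lit 14, nat_lit 62], ⟨[nat_lit 0x74d8231410a5621ba4ed221f61ae4a], [nat_lit 168448, nat_lit 165632, nat_lit 161920, nat_lit 157120, nat_lit 152608, nat_lit 147648, nat_lit 145176, nat_lit 140240, nat_lit 135590, nat_lit 132265, nat_lit 1938, nat_lit 5080, nat_lit 12416, nat_lit 18016, nat_lit 22464, nat_lit 24704, nat_lit 33280, nat_lit 37888, nat_lit 41856, nat_lit 38219, nat_lit 34023, nat_lit 28712, nat_lit 20620, nat_lit 16387, nat_lit 8226, nat_lit 4100]⟩⟩⟩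
def prv18 : AP := ⟨[nat_lit 177, nat_lit 170, nat_lit 180, nat_lit 171], [], (nat_lit 410), ⟨[nat_lit 0, nat_lit 37, nat_lit 59], [nat_lit 0, nat_lit 84, nat_lit 54], ⟨[nat_lit 0x1117450cb74a20f31d93959d568221], [nat_lit 173056, nat_lit 168448, nat_lit 165120, nat_lit 160384, nat_lit 157568, nat_lit 151776, nat_lit 148848, nat_lit 146168, nat_lit 139436, nat_lit 136874, nat_lit 132931, nat_lit 2, nat_lit 4608, nat_lit 8680, nat_lit 12800, nat_lit 17248, nat_lit 20992, nat_lit 26240, nat_lit 29696, nat_lit 34304, nat_lit 37888, nat_lit 41811, nat_lit 37000, nat_lit 32941, nat_lit 28953, nat_lit 24631, nat_lit 20488, nat_lit 16462, nat_lit 12295, nat_lit 8200, nat_lit 4101, nat_lit 4]⟩⟩⟩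
def lrv19 : List AP := [⟨[nat_lit 214, nat_lit 215, nat_lit 212], [], (nat_lit 1088), ⟨[nat_lit 79, nat_lit 65], [nat_lit 0, nat_lit 14, nat_lit 61], ⟨[nat_lit 0x13e008bad4a98693b493596e14498a], [nat_lit 174080, nat_lit 171520, nat_lit 167424, nat_lit 162560, nat_lit 155232, nat_lit 150512, nat_lit 145168, nat_lit 141356, nat_lit 135952, nat_lit 132609, nat_lit 166, nat_lit 5768, nat_lit 10160, nat_lit 14208, nat_lit 18176, nat_lit 20736, nat_lit 25472, nat_lit 30208, nat_lit 41604, nat_lit 36899, nat_lit 33005, nat_lit 28978, nat_lit 24763, nat_lit 20575, nat_lit 16421, nat_lit 12306]⟩⟩⟩,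
  ⟨[nat_lit 640, nat_lit 55, nat_lit 66], [], (nat_lit 1040), ⟨[nat_lit 71, nat_lit 69], [nat_lit 13, nat_lit 67], ⟨[nat_lit 0x485025a8037369629a5089e64bbeac], [nat_lit 175104, nat_lit 171520, nat_lit 166912, nat_lit 160896, nat_lit 157376, nat_lit 152256, nat_lit 150368, nat_lit 144736, nat_lit 140520, nat_lit 139174, nat_lit 133939, nat_lit 1580, nat_lit 6052, nat_lit 10088, nat_lit 12864, nat_lit 17696, nat_lit 22336, nat_lit 25728, nat_lit 29696, nat_lit 41892, nat_lit 37246, nat_lit 33285, nat_lit 29744, nat_lit 24627, nat_lit 20548, nat_lit 16428, nat_lit 12305, nat_lit 8224, nat_lit 4101]⟩⟩⟩,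
  ⟨[], [], (nat_lit 1034), ⟨[nat_lit 87, nat_lit 63], [nat_lit 3, nat_lit 50], ⟨[nat_lit 0x7c5ca48243116ecb4d75a342621e08], [nat_lit 173056, nat_lit 169472, nat_lit 164864, nat_lit 160384, nat_lit 156736, nat_lit 148752, nat_lit 144904, nat_lit 140288, nat_lit 136166, nat_lit 134959, nat_lit 256, nat_lit 5596, nat_lit 9096, nat_lit 12304, nat_lit 17408, nat_lit 21952, nat_lit 26112, nat_lit 29184, nat_lit 34304, nat_lit 37888, nat_lit 41892, nat_lit 37121, nat_lit 32886, nat_lit 29811, nat_lit 24718, nat_lit 20752, nat_lit 16456, nat_lit 12352, nat_lit 8224, nat_lit 4101]⟩⟩⟩]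
theorem srv19 : Suf rvT 2048 (ldrop (lapp rvwr0 [1, 0, 1]) 17) (apW dcM prv18) (tgtN dcM prv18.e) := Suf.fin' (l := lrv19) (by decide +kernel)
def lrv18 : List AP := [⟨[nat_lit 294, nat_lit 354, nat_lit 285], [], (nat_lit 876), ⟨[nat_lit 35, nat_lit 50], [nat_lit 0, nat_lit 86, nat_lit 93], ⟨[nat_lit 0xac4ef612f3028414246b2d24eb41a6], [nat_lit 173056, nat_lit 165632, nat_lit 161024, nat_lit 156608, nat_lit 152800, nat_lit 151200, nat_lit 143696, nat_lit 140524, nat_lit 135866, nat_lit 132131, nat_lit 1516, nat_lit 5024, nat_lit 10000, nat_lit 14112, nat_lit 16544, nat_lit 20672, nat_lit 25600, nat_lit 29696, nat_lit 33280, nat_lit 41104, nat_lit 36969, nat_lit 32842, nat_lit 29792, nat_lit 24627, nat_lit 20504, nat_lit 16388, nat_lit 12325, nat_lit 8201, nat_lit 4160, nat_lit 2]⟩⟩⟩,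
  ⟨[nat_lit 421, nat_lit 415, nat_lit 677, nat_lit 418], [], (nat_lit 904), ⟨[nat_lit 0, nat_lit 87, nat_lit 93], [nat_lit 0, nat_lit 42, nat_lit 62], ⟨[nat_lit 0x889137340a2beb049c24b9992a0d76], [nat_lit 169472, nat_lit 167680, nat_lit 162816, nat_lit 158400, nat_lit 155616, nat_lit 147520, nat_lit 146672, nat_lit 141324, nat_lit 136848, nat_lit 133853, nat_lit 354, nat_lit 5072, nat_lit 9040, nat_lit 12320, nat_lit 16448, nat_lit 26496, nat_lit 28928, nat_lit 33280, nat_lit 37888, nat_lit 41007, nat_lit 37212, nat_lit 33443, nat_lit 28942, nat_lit 24751, nat_lit 20498, nat_lit 16429, nat_lit 12295, nat_lit 8195, nat_lit 4100, nat_lit 2]⟩⟩⟩]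
theorem srv18 : Suf rvT 2048 (ldrop (lapp rvwr0 [1, 0, 1]) 9) (apW dcM prv17) (tgtN dcM prv17.e) := Suf.seg (l := lrv18) (by decide +kernel) srv19
def lrv17 : List AP := [⟨[nat_lit 27, nat_lit 30, nat_lit 27, nat_lit 23, nat_lit 29, nat_lit 25], [], (nat_lit 338), ⟨[nat_lit 4, nat_lit 69], [nat_lit 25, nat_lit 65], ⟨[nat_lit 0x1d48e6185794e288254b095b43bec0], [nat_lit 175104, nat_lit 164352, nat_lit 159872, nat_lit 156224, nat_lit 151680, nat_lit 147904, nat_lit 144448, nat_lit 140440, nat_lit 137026, nat_lit 131358, nat_lit 1024, nat_lit 5668, nat_lit 8408, nat_lit 12976, nat_lit 17888, nat_lit 21504, nat_lit 26496, nat_lit 30208, nat_lit 33792, nat_lit 37888, nat_lit 41600, nat_lit 37356, nat_lit 32806, nat_lit 29241, nat_lit 24637, nat_lit 20508, nat_lit 16428, nat_lit 12291, nat_lit 8224, nat_lit 4104]⟩⟩⟩,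
  ⟨[nat_lit 176, nat_lit 170, nat_lit 216, nat_lit 175, nat_lit 172], [], (nat_lit 1092), ⟨[nat_lit 77, nat_lit 63], [nat_lit 1, nat_lit 58], ⟨[nat_lit 0x592d5004aa3ce084b1e61b63793a82], [nat_lit 164864, nat_lit 161024, nat_lit 157568, nat_lit 153056, nat_lit 149008, nat_lit 143368, nat_lit 141300, nat_lit 137486, nat_lit 131830, nat_lit 1136, nat_lit 4128, nat_lit 10128, nat_lit 12800, nat_lit 18336, nat_lit 21760, nat_lit 26112, nat_lit 29184, nat_lit 37888, nat_lit 41263, nat_lit 37282, nat_lit 32802, nat_lit 29184, nat_lit 24609, nat_lit 20497, nat_lit 16391, nat_lit 13317, nat_lit 8194, nat_lit 16]⟩⟩⟩]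
theorem rvcr0_3 : Suf rvT 2048 (lapp rvwr0 [1, 0, 1]) (apW dcM q1) (tgtN dcM q1.e) := Suf.seg (l := lrv17) (by decide +kernel) srv18

def prv20 : AP := ⟨[nat_lit 286, nat_lit 290, nat_lit 355, nat_lit 287], [], (nat_lit 783), ⟨[nat_lit 0, nat_lit 36, nat_lit 91], [nat_lit 0, nat_lit 86, nat_lit 68], ⟨[nat_lit 0x9c6c4a880642ae51c1e9a34ee60572], [nat_lit 164096, nat_lit 161408, nat_lit 156160, nat_lit 153472, nat_lit 147584, nat_lit 144032, nat_lit 143352, nat_lit 135180, nat_lit 131223, nat_lit 1182, nat_lit 5084, nat_lit 8504, nat_lit 13264, nat_lit 18336, nat_lit 21376, nat_lit 25856, nat_lit 33280, nat_lit 37888, nat_lit 41435, nat_lit 36911, nat_lit 33917, nat_lit 29003, nat_lit 24620, nat_lit 20560, nat_lit 12294, nat_lit 8200, nat_lit 128]⟩⟩⟩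
def prv21 : AP := ⟨[nat_lit 222, nat_lit 229, nat_lit 266, nat_lit 665], [], (nat_lit 512), ⟨[nat_lit 33, nat_lit 89], [nat_lit 0, nat_lit 74, nat_lit 46], ⟨[nat_lit 0x5be041512830cf70563264caab05ae], [nat_lit 173056, nat_lit 169472, nat_lit 164864, nat_lit 159872, nat_lit 156480, nat_lit 154592, nat_lit 147824, nat_lit 145272, nat_lit 139576, nat_lit 136164, nat_lit 131825, nat_lit 1624, nat_lit 6068, nat_lit 10128, nat_lit 13696, nat_lit 17632, nat_lit 21952, nat_lit 25728, nat_lit 28928, nat_lit 37888, nat_lit 41603, nat_lit 37106, nat_lit 32864, nat_lit 28768, nat_lit 24608, nat_lit 20560, nat_lit 16431, nat_lit 12310, nat_lit 8194, nat_lit 4101, nat_lit 2]⟩⟩⟩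
def prv22 : AP := ⟨[nat_lit 355, nat_lit 287, nat_lit 295, nat_lit 354, nat_lit 284], [], (nat_lit 776), ⟨[nat_lit 0, nat_lit 30, nat_lit 47], [nat_lit 76, nat_lit 47], ⟨[nat_lit 0x11c815601bccc78ad36515836ca8f], [nat_lit 174080, nat_lit 169984, nat_lit 165376, nat_lit 163072, nat_lit 158016, nat_lit 154176, nat_lit 144000, nat_lit 139520, nat_lit 138428, nat_lit 133933, nat_lit 394, nat_lit 4164, nat_lit 8256, nat_lit 14144, nat_lit 16736, nat_lit 20736, nat_lit 26368, nat_lit 33792, nat_lit 37888, nat_lit 41385, nat_lit 36969, nat_lit 34007, nat_lit 29786, nat_lit 24732, nat_lit 20489, nat_lit 16514, nat_lit 12290, nat_lit 8258, nat_lit 4105]⟩⟩⟩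
def prv23 : AP := ⟨[nat_lit 68, nat_lit 47], [], (nat_lit 122), ⟨[nat_lit 21, nat_lit 92], [nat_lit 0, nat_lit 15, nat_lit 91], ⟨[nat_lit 0x7ddd54994704c522ad041c03163696], [nat_lit 175104, nat_lit 168960, nat_lit 165376, nat_lit 161536, nat_lit 156352, nat_lit 151712, nat_lit 147808, nat_lit 144160, nat_lit 140580, nat_lit 136740, nat_lit 132004, nat_lit 1720, nat_lit 4380, nat_lit 9040, nat_lit 13072, nat_lit 20992, nat_lit 25344, nat_lit 33280, nat_lit 37888, nat_lit 41280, nat_lit 37095, nat_lit 33872, nat_lit 29241, nat_lit 24757, nat_lit 20572, nat_lit 16423, nat_lit 12353, nat_lit 8193, nat_lit 4104]⟩⟩⟩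
def lrv24 : List AP := [⟨[nat_lit 37, nat_lit 41], [], (nat_lit 1032), ⟨[nat_lit 23, nat_lit 94], [nat_lit 13, nat_lit 57], ⟨[nat_lit 0x91221adc458512e19daf501065cd96], [nat_lit 175104, nat_lit 168960, nat_lit 164608, nat_lit 161280, nat_lit 157952, nat_lit 153632, nat_lit 150704, nat_lit 143816, nat_lit 143228, nat_lit 135912, nat_lit 134593, nat_lit 902, nat_lit 4340, nat_lit 9928, nat_lit 13344, nat_lit 17920, nat_lit 20928, nat_lit 25472, nat_lit 28928, nat_lit 33792, nat_lit 41372, nat_lit 37123, nat_lit 32999, nat_lit 29000, nat_lit 24840, nat_lit 20497, nat_lit 16430, nat_lit 12289, nat_lit 8194, nat_lit 4101, nat_lit 2]⟩⟩⟩]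
theorem srv24 : Suf rvT 19005990 (ldrop (lapp rvwr1 [1, 0, 1]) 38) (apW dcM prv23) (tgtN dcM prv23.e) := Suf.fin' (l := lrv24) (by decide +kernel)
def lrv23 : List AP := [⟨[nat_lit 294, nat_lit 671, nat_lit 354, nat_lit 355], [], (nat_lit 1160), ⟨[nat_lit 31, nat_lit 48], [nat_lit 7, nat_lit 69], ⟨[nat_lit 0x1a2895122d03ecc595d235ce29c2a1], [nat_lit 173056, nat_lit 168448, nat_lit 164864, nat_lit 160768, nat_lit 156032, nat_lit 152960, nat_lit 149984, nat_lit 144624, nat_lit 140708, nat_lit 136016, nat_lit 131134, nat_lit 1760, nat_lit 4112, nat_lit 9464, nat_lit 13488, nat_lit 16448, nat_lit 22080, nat_lit 25984, nat_lit 30208, nat_lit 33280, nat_lit 41293, nat_lit 37328, nat_lit 32976, nat_lit 28679, nat_lit 24885, nat_lit 20555, nat_lit 16396, nat_lit 12307, nat_lit 8203, nat_lit 4097, nat_lit 2]⟩⟩⟩,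
  ⟨[nat_lit 291, nat_lit 354], [], (nat_lit 1124), ⟨[nat_lit 0, nat_lit 37, nat_lit 55], [nat_lit 0, nat_lit 36, nat_lit 58], ⟨[nat_lit 0x7990c936c12ac62ac40ea289799d30], [nat_lit 168960, nat_lit 166400, nat_lit 161792, nat_lit 158464, nat_lit 154432, nat_lit 147600, nat_lit 146192, nat_lit 143280, nat_lit 135464, nat_lit 133641, nat_lit 428, nat_lit 5508, nat_lit 8432, nat_lit 13120, nat_lit 18112, nat_lit 20800, nat_lit 30208, nat_lit 34304, nat_lit 41914, nat_lit 38238, nat_lit 32773, nat_lit 28689, nat_lit 25107, nat_lit 20507, nat_lit 16392, nat_lit 12310, nat_lit 8194, nat_lit 4097]⟩⟩⟩]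
theorem srv23 : Suf rvT 19005990 (ldrop (lapp rvwr1 [1, 0, 1]) 30) (apW dcM prv22) (tgtN dcM prv22.e) := Suf.seg (l := lrv23) (by decide +kernel) srv24
def lrv22 : List AP := [⟨[nat_lit 668, nat_lit 264, nat_lit 225, nat_lit 665], [], (nat_lit 699), ⟨[nat_lit 5, nat_lit 55], [nat_lit 0, nat_lit 12, nat_lit 50], ⟨[nat_lit 0x158ef600d7ace899394d291710a203], [nat_lit 173056, nat_lit 168448, nat_lit 164352, nat_lit 161152, nat_lit 157568, nat_lit 151680, nat_lit 148880, nat_lit 145192, nat_lit 140248, nat_lit 135706, nat_lit 134570, nat_lit 8, nat_lit 4160, nat_lit 9592, nat_lit 12352, nat_lit 16832, nat_lit 22336, nat_lit 24832, nat_lit 29184, nat_lit 37888, nat_lit 41881, nat_lit 38096, nat_lit 33309, nat_lit 29770, nat_lit 24588, nat_lit 20481, nat_lit 16522, nat_lit 12291, nat_lit 8257, nat_lit 4104]⟩⟩⟩,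
  ⟨[nat_lit 292, nat_lit 352, nat_lit 295, nat_lit 354, nat_lit 284], [], (nat_lit 674), ⟨[nat_lit 0, nat_lit 41, nat_lit 68], [nat_lit 0, nat_lit 45, nat_lit 46], ⟨[nat_lit 0xb4485ac1cc55e68a00723242d3bd62], [nat_lit 164864, nat_lit 161280, nat_lit 157824, nat_lit 152768, nat_lit 148688, nat_lit 143400, nat_lit 140648, nat_lit 135936, nat_lit 132896, nat_lit 1178, nat_lit 5016, nat_lit 10088, nat_lit 14112, nat_lit 17696, nat_lit 21056, nat_lit 24704, nat_lit 28928, nat_lit 41430, nat_lit 37276, nat_lit 32960, nat_lit 28954, nat_lit 24622, nat_lit 20558, nat_lit 16525, nat_lit 12293, nat_lit 8201, nat_lit 8]⟩⟩⟩]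
theorem srv22 : Suf rvT 19005990 (ldrop (lapp rvwr1 [1, 0, 1]) 20) (apW dcM prv21) (tgtN dcM prv21.e) := Suf.seg (l := lrv22) (by decide +kernel) srv23
def lrv21 : List AP := [⟨[nat_lit 352, nat_lit 351, nat_lit 670, nat_lit 672], [], (nat_lit 684), ⟨[nat_lit 0, nat_lit 7, nat_lit 51], [nat_lit 67], ⟨[nat_lit 0x2db04b852a8ce1651e69c6c555c88], [nat_lit 175104, nat_lit 171520, nat_lit 166400, nat_lit 162560, nat_lit 156480, nat_lit 154464, nat_lit 150960, nat_lit 141440, nat_lit 132753, nat_lit 1396, nat_lit 4724, nat_lit 9904, nat_lit 12640, nat_lit 16512, nat_lit 22080, nat_lit 28928, nat_lit 33792, nat_lit 41732, nat_lit 38004, nat_lit 32772, nat_lit 28697, nat_lit 25140, nat_lit 21012, nat_lit 16525, nat_lit 12422, nat_lit 8193, nat_lit 4105, nat_lit 4]⟩⟩⟩,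
  ⟨[nat_lit 290, nat_lit 356, nat_lit 288, nat_lit 287, nat_lit 285], [], (nat_lit 1152), ⟨[nat_lit 3, nat_lit 58], [nat_lit 0, nat_lit 76, nat_lit 59], ⟨[nat_lit 0x6ca86612b11290b3ddf348023b38b0], [nat_lit 173056, nat_lit 169472, nat_lit 159872, nat_lit 155712, nat_lit 152096, nat_lit 150032, nat_lit 143536, nat_lit 140016, nat_lit 136770, nat_lit 132046, nat_lit 760, nat_lit 4224, nat_lit 10144, nat_lit 12352, nat_lit 16448, nat_lit 22208, nat_lit 25088, nat_lit 29184, nat_lit 33792, nat_lit 41577, nat_lit 38050, nat_lit 32903, nat_lit 28754, nat_lit 24592, nat_lit 21529, nat_lit 16392, nat_lit 12305, nat_lit 4224, nat_lit 8]⟩⟩⟩]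
theorem srv21 : Suf rvT 19005990 (ldrop (lapp rvwr1 [1, 0, 1]) 12) (apW dcM prv20) (tgtN dcM prv20.e) := Suf.seg (l := lrv21) (by decide +kernel) srv22
def lrv20 : List AP := [⟨[nat_lit 14, nat_lit 37, nat_lit 14, nat_lit 41, nat_lit 38], [], (nat_lit 90), ⟨[nat_lit 0, nat_lit 29, nat_lit 57], [nat_lit 0, nat_lit 35, nat_lit 50], ⟨[nat_lit 0xac454b154d90128baccf0b1d319c90], [nat_lit 169472, nat_lit 165376, nat_lit 162560, nat_lit 156416, nat_lit 151648, nat_lit 147888, nat_lit 143848, nat_lit 139664, nat_lit 135270, nat_lit 133093, nat_lit 1246, nat_lit 5408, nat_lit 10224, nat_lit 12416, nat_lit 17920, nat_lit 20608, nat_lit 26112, nat_lit 30208, nat_lit 34304, nat_lit 37888, nat_lit 41838, nat_lit 38355, nat_lit 33000, nat_lit 28740, nat_lit 24727, nat_lit 16385, nat_lit 8321, nat_lit 4161, nat_lit 4]⟩⟩⟩,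
  ⟨[nat_lit 53, nat_lit 54, nat_lit 51, nat_lit 56, nat_lit 53], [], (nat_lit 716), ⟨[nat_lit 0, nat_lit 29, nat_lit 53], [nat_lit 7, nat_lit 56], ⟨[nat_lit 0x3b1d4158a353c13bc606221350b572], [nat_lit 169984, nat_lit 164608, nat_lit 163712, nat_lit 155904, nat_lit 154144, nat_lit 149600, nat_lit 146464, nat_lit 141116, nat_lit 135656, nat_lit 133821, nat_lit 696, nat_lit 5080, nat_lit 9040, nat_lit 13264, nat_lit 17472, nat_lit 25856, nat_lit 30464, nat_lit 33280, nat_lit 37888, nat_lit 41729, nat_lit 38016, nat_lit 33408, nat_lit 28767, nat_lit 24710, nat_lit 20481, nat_lit 16459, nat_lit 12291, nat_lit 4097]⟩⟩⟩]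
theorem rvcr1_0 : Suf rvT 19005990 (lapp rvwr1 [1, 0, 1]) (apW dcM q0) (tgtN dcM q0.e) := Suf.seg (l := lrv20) (by decide +kernel) srv21


end

end CF.RV.M
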