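import Cfsg.Agent.RV.MD

set_option autoImplicit false
set_option maxRecDepth 100000

namespace CF.RV.M

open CF.Comp CF.Mon CF.Mon.Tr

noncomputable section

def prv25 : AP := ⟨[nat_lit 410, nat_lit 466, nat_lit 419, nat_lit 677, nat_lit 412], [], (nat_lit 1242), ⟨[nat_lit 16, nat_lit 92], [nat_lit 80, nat_lit 91], ⟨[nat_lit 0x455b8ed43aa2f2a66d3496c4408e], [nat_lit 168960, nat_lit 164096, nat_lit 160512, nat_lit 156352, nat_lit 152480, nat_lit 148480, nat_lit 146032, nat_lit 140420, nat_lit 136934, nat_lit 132168, nat_lit 342, nat_lit 4396, nat_lit 10224, nat_lit 12544, nat_lit 16640, nat_lit 20544, nat_lit 24832, nat_lit 30208, nat_lit 34304, nat_lit 41736, nat_lit 38339, nat_lit 32815, nat_lit 29253, nat_lit 24616, nat_lit 20549, nat_lit 16394, nat_lit 8225, nat_lit 4112, nat_lit 32]⟩⟩⟩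
def prv26 : AP := ⟨[nat_lit 667, nat_lit 665, nat_lit 668, nat_lit 226], [], (nat_lit 1106), ⟨[nat_lit 80], [nat_lit 0, nat_lit 38, nat_lit 70], ⟨[nat_lit 0x34eea83e200a50d614675d492159d4], [nat_lit 174080, nat_lit 171008, nat_lit 166912, nat_lit 161664, nat_lit 158912, nat_lit 154368, nat_lit 149376, nat_lit 145872, nat_lit 140684, nat_lit 136494, nat_lit 131117, nat_lit 664, nat_lit 4668, nat_lit 8224, nat_lit 14144, nat_lit 18304, nat_lit 25088, nat_lit 30464, nat_lit 41039, nat_lit 36904, nat_lit 32979, nat_lit 28728, nat_lit 24625, nat_lit 20511, nat_lit 16423, nat_lit 12292, nat_lit 8201, nat_lit 4129, nat_lit 4]⟩⟩⟩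
def prv27 : AP := ⟨[nat_lit 264, nat_lit 265, nat_lit 668, nat_lit 224, nat_lit 222], [], (nat_lit 544), ⟨[nat_lit 8, nat_lit 49], [nat_lit 0, nat_lit 24, nat_lit 54], ⟨[nat_lit 0x7c440b51d0506a720ee8918ad4ae6c], [nat_lit 168448, nat_lit 165376, nat_lit 161536, nat_lit 155968, nat_lit 155616, nat_lit 148176, nat_lit 143808, nat_lit 139772, nat_lit 136060, nat_lit 131975, nat_lit 880, nat_lit 4380, nat_lit 8928, nat_lit 13552, nat_lit 18400, nat_lit 21632, nat_lit 25728, nat_lit 28928, nat_lit 34304, nat_lit 41888, nat_lit 37940, nat_lit 33332, nat_lit 28928, nat_lit 24608, nat_lit 20497, nat_lit 16428, nat_lit 12290, nat_lit 8194, nat_lit 4097, nat_lit 2]⟩⟩⟩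
def prv28 : AP := ⟨[nat_lit 76], [], (nat_lit 196), ⟨[nat_lit 23, nat_lit 48], [nat_lit 0, nat_lit 19, nat_lit 49], ⟨[nat_lit 0x5b43651e28352b37ba0410e4560137], [nat_lit 174080, nat_lit 164864, nat_lit 162048, nat_lit 155776, nat_lit 152800, nat_lit 150624, nat_lit 146184, nat_lit 142240, nat_lit 137608, nat_lit 133497, nat_lit 434, nat_lit 4328, nat_lit 9328, nat_lit 13552, nat_lit 16512, nat_lit 21184, nat_lit 26112, nat_lit 41941, nat_lit 37229, nat_lit 33021, nat_lit 28944, nat_lit 24621, nat_lit 20547, nat_lit 16640, nat_lit 12291, nat_lit 8194, nat_lit 4097, nat_lit 2]⟩⟩⟩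
def lrv29 : List AP := [⟨[nat_lit 16, nat_lit 36], [], (nat_lit 1032), ⟨[nat_lit 0, nat_lit 14, nat_lit 91], [nat_lit 25, nat_lit 65], ⟨[nat_lit 0x7c26ca80361d2e2424c75a8a4945cd], [nat_lit 173056, nat_lit 168448, nat_lit 161408, nat_lit 155712, nat_lit 151840, nat_lit 149312, nat_lit 144680, nat_lit 139928, nat_lit 136586, nat_lit 133906, nat_lit 1624, nat_lit 5768, nat_lit 9648, nat_lit 13904, nat_lit 22208, nat_lit 25344, nat_lit 41162, nat_lit 37331, nat_lit 33461, nat_lit 28681, nat_lit 24846, nat_lit 20551, nat_lit 16393, nat_lit 12289, nat_lit 8226, nat_lit 4128, nat_lit 2]⟩⟩⟩]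
theorem srv29 : Suf rvT 19005990 (ldrop (lapp rvwr1 [2, 0, 1]) 38) (apW dcM prv28) (tgtN dcM prv28.e) := Suf.fin' (l := lrv29) (by decide +kernel)
def lrv28 : List AP := [⟨[nat_lit 224, nat_lit 227, nat_lit 667, nat_lit 668, nat_lit 223], [], (nat_lit 638), ⟨[nat_lit 76, nat_lit 50], [nat_lit 0, nat_lit 18, nat_lit 70], ⟨[nat_lit 0x2a84d9de500a08fb56913ac0c30d2e], [nat_lit 174080, nat_lit 159872, nat_lit 159488, nat_lit 155552, nat_lit 151424, nat_lit 144368, nat_lit 142492, nat_lit 136828, nat_lit 133128, nat_lit 960, nat_lit 4720, nat_lit 10168, nat_lit 13312, nat_lit 16608, nat_lit 20800, nat_lit 25600, nat_lit 29440, nat_lit 41959, nat_lit 38378, nat_lit 34026, nat_lit 28748, nat_lit 24589, nat_lit 20504, nat_lit 16395, nat_lit 12293, nat_lit 8193, nat_lit 4097]⟩⟩⟩,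
  ⟨[nat_lit 285, nat_lit 354, nat_lit 351], [], (nat_lit 1218), ⟨[nat_lit 26, nat_lit 90], [nat_lit 36, nat_lit 89], ⟨[nat_lit 0x505e558cee95a11bd6933012c69048], [nat_lit 169472, nat_lit 164864, nat_lit 160128, nat_lit 156096, nat_lit 153568, nat_lit 148672, nat_lit 147240, nat_lit 140096, nat_lit 136954, nat_lit 131595, nat_lit 236, nat_lit 4408, nat_lit 8208, nat_lit 12544, nat_lit 16640, nat_lit 22272, nat_lit 25088, nat_lit 28928, nat_lit 33280, nat_lit 41973, nat_lit 38070, nat_lit 32915, nat_lit 28774, nat_lit 24714, nat_lit 20548, nat_lit 16398, nat_lit 12289, nat_lit 8210, nat_lit 4112, nat_lit 8]⟩⟩⟩]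
theorem srv28 : Suf rvT 19005990 (ldrop (lapp rvwr1 [2, 0, 1]) 30) (apW dcM prv27) (tgtN dcM prv27.e) := Suf.seg (l := lrv28) (by decide +kernel) srv29
def lrv27 : List AP := [⟨[nat_lit 665, nat_lit 233, nat_lit 224, nat_lit 232], [], (nat_lit 610), ⟨[nat_lit 11, nat_lit 66], [nat_lit 0, nat_lit 15, nat_lit 59], ⟨[nat_lit 0x4dead1b900b1a429bd70231453c434], [nat_lit 174080, nat_lit 169984, nat_lit 166912, nat_lit 163584, nat_lit 157376, nat_lit 154240, nat_lit 150192, nat_lit 144736, nat_lit 142816, nat_lit 135670, nat_lit 131299, nat_lit 1214, nat_lit 6068, nat_lit 9648, nat_lit 13088, nat_lit 18368, nat_lit 20608, nat_lit 25216, nat_lit 29184, nat_lit 41774, nat_lit 37124, nat_lit 33472, nat_lit 28793, nat_lit 24726, nat_lit 20572, nat_lit 16423, nat_lit 12354, nat_lit 8]⟩⟩⟩,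
  ⟨[nat_lit 672, nat_lit 672, nat_lit 286, nat_lit 288], [], (nat_lit 625), ⟨[nat_lit 0, nat_lit 73, nat_lit 46], [nat_lit 86, nat_lit 47], ⟨[nat_lit 0xb45a765cb281aaf5216148c02a11d3], [nat_lit 175104, nat_lit 168960, nat_lit 158912, nat_lit 153600, nat_lit 150032, nat_lit 143528, nat_lit 142504, nat_lit 135268, nat_lit 135017, nat_lit 1530, nat_lit 5688, nat_lit 10144, nat_lit 13840, nat_lit 18336, nat_lit 20800, nat_lit 26240, nat_lit 29184, nat_lit 33792, nat_lit 41487, nat_lit 37111, nat_lit 32925, nat_lit 28969, nat_lit 24631, nat_lit 20498, nat_lit 16387, nat_lit 12546, nat_lit 8195, nat_lit 4097, nat_lit 2]⟩⟩⟩]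
theorem srv27 : Suf rvT 19005990 (ldrop (lapp rvwr1 [2, 0, 1]) 20) (apW dcM prv26) (tgtN dcM prv26.e) := Suf.seg (l := lrv27) (by decide +kernel) srv28
def lrv26 : List AP := [⟨[nat_lit 671, nat_lit 355, nat_lit 293, nat_lit 287], [], (nat_lit 800), ⟨[nat_lit 39, nat_lit 48], [nat_lit 88, nat_lit 65], ⟨[nat_lit 0xa38c38a6b6b940f6cd0c5c0223a892], [nat_lit 174080, nat_lit 168960, nat_lit 166400, nat_lit 162816, nat_lit 157824, nat_lit 152224, nat_lit 147792, nat_lit 144192, nat_lit 141556, nat_lit 139144, nat_lit 132137, nat_lit 1810, nat_lit 5588, nat_lit 9096, nat_lit 13184, nat_lit 20544, nat_lit 26112, nat_lit 29440, nat_lit 34304, nat_lit 41554, nat_lit 37027, nat_lit 32824, nat_lit 28748, nat_lit 24745, nat_lit 20575, nat_lit 16398, nat_lit 12305, nat_lit 8200, nat_lit 4]⟩⟩⟩,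
  ⟨[nat_lit 293, nat_lit 291, nat_lit 669], [], (nat_lit 617), ⟨[nat_lit 0, nat_lit 73, nat_lit 94], [nat_lit 44, nat_lit 89], ⟨[nat_lit 0x3414021d954a28e0d84d8bef39146b], [nat_lit 175104, nat_lit 168448, nat_lit 164608, nat_lit 161792, nat_lit 157504, nat_lit 153024, nat_lit 151152, nat_lit 145520, nat_lit 142628, nat_lit 137636, nat_lit 135061, nat_lit 1860, nat_lit 5072, nat_lit 10176, nat_lit 18112, nat_lit 21440, nat_lit 25984, nat_lit 30208, nat_lit 33792, nat_lit 37888, nat_lit 41635, nat_lit 37221, nat_lit 33415, nat_lit 29016, nat_lit 24862, nat_lit 20562, nat_lit 12291, nat_lit 8225, nat_lit 4097]⟩⟩⟩]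
theorem srv26 : Suf rvT 19005990 (ldrop (lapp rvwr1 [2, 0, 1]) 12) (apW dcM prv25) (tgtN dcM prv25.e) := Suf.seg (l := lrv26) (by decide +kernel) srv27
def lrv25 : List AP := [⟨[nat_lit 41, nat_lit 39, nat_lit 629, nat_lit 14, nat_lit 15, nat_lit 15], [], (nat_lit 90), ⟨[nat_lit 0, nat_lit 33, nat_lit 64], [nat_lit 0, nat_lit 30, nat_lit 61], ⟨[nat_lit 0x90622bd4a47a1cb31ed4982036352a], [nat_lit 174080, nat_lit 169984, nat_lit 165120, nat_lit 161920, nat_lit 158016, nat_lit 154816, nat_lit 149008, nat_lit 145232, nat_lit 139388, nat_lit 137626, nat_lit 134960, nat_lit 724, nat_lit 5884, nat_lit 9016, nat_lit 13568, nat_lit 17184, nat_lit 22016, nat_lit 25216, nat_lit 30464, nat_lit 33280, nat_lit 41766, nat_lit 37067, nat_lit 32875, nat_lit 28683, nat_lit 24635, nat_lit 20556, nat_lit 16420, nat_lit 12289, nat_lit 8225, nat_lit 4101, nat_lit 2]⟩⟩⟩,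
  ⟨[nat_lit 56, nat_lit 69, nat_lit 56, nat_lit 67, nat_lit 49], [], (nat_lit 818), ⟨[nat_lit 0, nat_lit 35, nat_lit 46], [nat_lit 21, nat_lit 60], ⟨[nat_lit 0x44a77889865d9ae205f02a6a750c14], [nat_lit 165632, nat_lit 160000, nat_lit 157184, nat_lit 152320, nat_lit 149216, nat_lit 145048, nat_lit 142644, nat_lit 136382, nat_lit 132782, nat_lit 32, nat_lit 5904, nat_lit 8200, nat_lit 12320, nat_lit 18368, nat_lit 22400, nat_lit 25600, nat_lit 28928, nat_lit 34304, nat_lit 37888, nat_lit 41746, nat_lit 36874, nat_lit 34046, nat_lit 28735, nat_lit 24832, nat_lit 20573, nat_lit 16426, nat_lit 12295, nat_lit 4104, nat_lit 2]⟩⟩⟩]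
theorem rvcr1_1 : Suf rvT 19005990 (lapp rvwr1 [2, 0, 1]) (iC2 :: apW dcM q0) (tgtN dcM q0.e) := Suf.seg (l := lrv25) (by decide +kernel) srv26

def prv30 : AP := ⟨[nat_lit 353, nat_lit 672, nat_lit 294, nat_lit 286, nat_lit 284], [], (nat_lit 1172), ⟨[nat_lit 20, nat_lit 59], [nat_lit 0, nat_lit 83, nat_lit 47], ⟨[nat_lit 0x85969381eabc8a4a862233503a4dcc], [nat_lit 169472, nat_lit 165632, nat_lit 161280, nat_lit 156352, nat_lit 151680, nat_lit 149344, nat_lit 145304, nat_lit 139804, nat_lit 135204, nat_lit 133854, nat_lit 318, nat_lit 5768, nat_lit 9408, nat_lit 12320, nat_lit 17216, nat_lit 21824, nat_lit 25472, nat_lit 30464, nat_lit 33280, nat_lit 41740, nat_lit 36927, nat_lit 33983, nat_lit 28791, nat_lit 24717, nat_lit 20547, nat_lit 16399, nat_lit 12304, nat_lit 8194, nat_lit 4097]⟩⟩⟩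
def prv31 : AP := ⟨[nat_lit 229, nat_lit 665, nat_lit 260], [], (nat_lit 687), ⟨[nat_lit 0, nat_lit 9, nat_lit 52], [nat_lit 3, nat_lit 62], ⟨[nat_lit 0x99a42029272382da9683bb1117c176], [nat_lit 175104, nat_lit 171520, nat_lit 166656, nat_lit 161280, nat_lit 157440, nat_lit 152256, nat_lit 150384, nat_lit 143568, nat_lit 139596, nat_lit 137682, nat_lit 133764, nat_lit 354, nat_lit 5544, nat_lit 8256, nat_lit 12560, nat_lit 17504, nat_lit 21696, nat_lit 25088, nat_lit 33280, nat_lit 37888, nat_lit 41063, nat_lit 37199, nat_lit 32937, nat_lit 28984, nat_lit 24636, nat_lit 20553, nat_lit 16385, nat_lit 12289, nat_lit 8224, nat_lit 4097, nat_lit 2]⟩⟩⟩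
def prv32 : AP := ⟨[nat_lit 665, nat_lit 223, nat_lit 227, nat_lit 259, nat_lit 222], [], (nat_lit 638), ⟨[nat_lit 20, nat_lit 46], [nat_lit 30, nat_lit 53], ⟨[nat_lit 0xa064d2c51371d8b25aea480c313e15], [nat_lit 173056, nat_lit 170496, nat_lit 164096, nat_lit 160640, nat_lit 156608, nat_lit 151904, nat_lit 148704, nat_lit 143528, nat_lit 140716, nat_lit 136732, nat_lit 131698, nat_lit 1250, nat_lit 5452, nat_lit 10088, nat_lit 13664, nat_lit 18048, nat_lit 21760, nat_lit 25472, nat_lit 30464, nat_lit 33792, nat_lit 37888, nat_lit 41799, nat_lit 37120, nat_lit 33521, nat_lit 29041, nat_lit 24581, nat_lit 20754, nat_lit 16649, nat_lit 12292, nat_lit 8200, nat_lit 4129]⟩⟩⟩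
def prv33 : AP := ⟨[nat_lit 51], [], (nat_lit 122), ⟨[nat_lit 88, nat_lit 89], [nat_lit 74, nat_lit 48], ⟨[nat_lit 0x84c16489176acb13d0c37b2a153892], [nat_lit 168448, nat_lit 159872, nat_lit 155712, nat_lit 151680, nat_lit 148000, nat_lit 144336, nat_lit 142644, nat_lit 136464, nat_lit 131098, nat_lit 1810, nat_lit 4112, nat_lit 10160, nat_lit 13744, nat_lit 22400, nat_lit 25728, nat_lit 29184, nat_lit 33280, nat_lit 41626, nat_lit 37172, nat_lit 33336, nat_lit 28741, nat_lit 24627, nat_lit 20511, nat_lit 16425, nat_lit 12322, nat_lit 8201, nat_lit 4112, nat_lit 8]⟩⟩⟩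
def lrv34 : List AP := [⟨[nat_lit 633, nat_lit 38, nat_lit 36], [], (nat_lit 1032), ⟨[nat_lit 0, nat_lit 39, nat_lit 90], [nat_lit 19, nat_lit 49], ⟨[nat_lit 0x2bc2e992204321450ceb6a6f2b5446], [nat_lit 169472, nat_lit 164352, nat_lit 160128, nat_lit 156096, nat_lit 153568, nat_lit 150096, nat_lit 143968, nat_lit 141156, nat_lit 135964, nat_lit 133066, nat_lit 738, nat_lit 4188, nat_lit 9216, nat_lit 12976, nat_lit 21376, nat_lit 25472, nat_lit 29440, nat_lit 33280, nat_lit 41402, nat_lit 36880, nat_lit 33836, nat_lit 29053, nat_lit 24756, nat_lit 20484, nat_lit 12352, nat_lit 8202, nat_lit 4105, nat_lit 4]⟩⟩⟩]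
theorem srv34 : Suf rvT 19005990 (ldrop (lapp rvwr1 [3, 0, 1]) 38) (apW dcM prv33) (tgtN dcM prv33.e) := Suf.fin' (l := lrv34) (by decide +kernel)
def lrv33 : List AP := [⟨[nat_lit 672, nat_lit 287, nat_lit 286], [], (nat_lit 771), ⟨[nat_lit 88, nat_lit 54], [nat_lit 24, nat_lit 51], ⟨[nat_lit 0x50e4b7a2c4ac434609d3340a03b537], [nat_lit 173056, nat_lit 168960, nat_lit 166144, nat_lit 160256, nat_lit 156864, nat_lit 153216, nat_lit 148784, nat_lit 144288, nat_lit 135358, nat_lit 132061, nat_lit 1396, nat_lit 5316, nat_lit 8624, nat_lit 13712, nat_lit 18400, nat_lit 21248, nat_lit 25984, nat_lit 28928, nat_lit 34304, nat_lit 37888, nat_lit 41920, nat_lit 38317, nat_lit 34047, nat_lit 24624, nat_lit 20558, nat_lit 16427, nat_lit 12295, nat_lit 8202]⟩⟩⟩,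
  ⟨[nat_lit 672, nat_lit 285, nat_lit 285], [], (nat_lit 1222), ⟨[nat_lit 0, nat_lit 35, nat_lit 62], [nat_lit 13, nat_lit 53], ⟨[nat_lit 0x6b005358758d12e50967206509dde8], [nat_lit 173056, nat_lit 171520, nat_lit 165120, nat_lit 162944, nat_lit 157184, nat_lit 155296, nat_lit 151344, nat_lit 145552, nat_lit 140084, nat_lit 135892, nat_lit 134210, nat_lit 952, nat_lit 5788, nat_lit 9928, nat_lit 13920, nat_lit 18304, nat_lit 21440, nat_lit 24704, nat_lit 41559, nat_lit 38142, nat_lit 32986, nat_lit 29019, nat_lit 24884, nat_lit 20559, nat_lit 16651, nat_lit 12290, nat_lit 4105]⟩⟩⟩]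
theorem srv33 : Suf rvT 19005990 (ldrop (lapp rvwr1 [3, 0, 1]) 30) (apW dcM prv32) (tgtN dcM prv32.e) := Suf.seg (l := lrv33) (by decide +kernel) srv34
def lrv32 : List AP := [⟨[nat_lit 352, nat_lit 357, nat_lit 351, nat_lit 354], [], (nat_lit 676), ⟨[nat_lit 3, nat_lit 48], [nat_lit 83, nat_lit 68], ⟨[nat_lit 0xab132b168184c445ba3701ded1990a], [nat_lit 168960, nat_lit 164864, nat_lit 163712, nat_lit 156352, nat_lit 152096, nat_lit 148352, nat_lit 145128, nat_lit 140680, nat_lit 136586, nat_lit 132800, nat_lit 1938, nat_lit 6012, nat_lit 9080, nat_lit 12416, nat_lit 17664, nat_lit 22464, nat_lit 25472, nat_lit 37888, nat_lit 41525, nat_lit 38101, nat_lit 32923, nat_lit 28712, nat_lit 25126, nat_lit 20616, nat_lit 16648, nat_lit 8258, nat_lit 4113]⟩⟩⟩,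
  ⟨[nat_lit 671, nat_lit 673, nat_lit 355, nat_lit 351], [], (nat_lit 700), ⟨[nat_lit 0, nat_lit 11, nat_lit 66], [nat_lit 0, nat_lit 12, nat_lit 51], ⟨[nat_lit 0x6352304e0a12eb474ac43a0a1346ef], [nat_lit 169984, nat_lit 158272, nat_lit 151904, nat_lit 147824, nat_lit 146216, nat_lit 142416, nat_lit 137598, nat_lit 134486, nat_lit 1318, nat_lit 5688, nat_lit 8240, nat_lit 13152, nat_lit 16704, nat_lit 22336, nat_lit 25344, nat_lit 29696, nat_lit 37888, nat_lit 41225, nat_lit 37193, nat_lit 33296, nat_lit 28681, nat_lit 24853, nat_lit 20481, nat_lit 16387, nat_lit 12289, nat_lit 8257]⟩⟩⟩]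
theorem srv32 : Suf rvT 19005990 (ldrop (lapp rvwr1 [3, 0, 1]) 20) (apW dcM prv31) (tgtN dcM prv31.e) := Suf.seg (l := lrv32) (by decide +kernel) srv33
def lrv31 : List AP := [⟨[nat_lit 667, nat_lit 668, nat_lit 227, nat_lit 262, nat_lit 222], [], (nat_lit 624), ⟨[nat_lit 85, nat_lit 94], [nat_lit 0, nat_lit 10, nat_lit 66], ⟨[nat_lit 0x28811241495b875799b20a1969d2e7], [nat_lit 173056, nat_lit 168960, nat_lit 165632, nat_lit 160000, nat_lit 158976, nat_lit 152416, nat_lit 147520, nat_lit 144032, nat_lit 139944, nat_lit 136090, nat_lit 131685, nat_lit 1246, nat_lit 4328, nat_lit 9896, nat_lit 12768, nat_lit 18080, nat_lit 20992, nat_lit 25472, nat_lit 28928, nat_lit 33792, nat_lit 41920, nat_lit 37157, nat_lit 33509, nat_lit 28798, nat_lit 24582, nat_lit 20638, nat_lit 16521, nat_lit 12423, nat_lit 8211, nat_lit 4097]⟩⟩⟩,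
  ⟨[nat_lit 354, nat_lit 353, nat_lit 285, nat_lit 355], [], (nat_lit 1136), ⟨[nat_lit 39, nat_lit 59], [nat_lit 37, nat_lit 47], ⟨[nat_lit 0x6d8eca28c97ac73722009163709055], [nat_lit 174080, nat_lit 171008, nat_lit 166912, nat_lit 161536, nat_lit 156224, nat_lit 151616, nat_lit 150016, nat_lit 145168, nat_lit 140188, nat_lit 138798, nat_lit 133629, nat_lit 1766, nat_lit 4100, nat_lit 8672, nat_lit 12496, nat_lit 17024, nat_lit 21312, nat_lit 26368, nat_lit 34304, nat_lit 37888, nat_lit 41493, nat_lit 37013, nat_lit 32822, nat_lit 28693, nat_lit 24599, nat_lit 20511, nat_lit 16429, nat_lit 12324, nat_lit 8193, nat_lit 4104, nat_lit 2]⟩⟩⟩]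
theorem srv31 : Suf rvT 19005990 (ldrop (lapp rvwr1 [3, 0, 1]) 12) (apW dcM prv30) (tgtN dcM prv30.e) := Suf.seg (l := lrv31) (by decide +kernel) srv32
def lrv30 : List AP := [⟨[nat_lit 15, nat_lit 14, nat_lit 37, nat_lit 14, nat_lit 633], [], (nat_lit 150), ⟨[nat_lit 25, nat_lit 46], [nat_lit 32, nat_lit 47], ⟨[nat_lit 0x8aea9818478e46851115b6aeb1ca9], [nat_lit 168960, nat_lit 164864, nat_lit 161280, nat_lit 156736, nat_lit 152128, nat_lit 148784, nat_lit 143808, nat_lit 139828, nat_lit 137090, nat_lit 134993, nat_lit 1478, nat_lit 5444, nat_lit 9960, nat_lit 12976, nat_lit 17376, nat_lit 21824, nat_lit 30208, nat_lit 33280, nat_lit 37888, nat_lit 41220, nat_lit 36937, nat_lit 33927, nat_lit 28957, nat_lit 25146, nat_lit 20573, nat_lit 16460, nat_lit 8209, nat_lit 4097]⟩⟩⟩,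
  ⟨[nat_lit 85, nat_lit 81, nat_lit 86, nat_lit 80, nat_lit 105], [], (nat_lit 718), ⟨[nat_lit 0, nat_lit 21, nat_lit 90], [nat_lit 25, nat_lit 50], ⟨[nat_lit 0xbd89574d215c46d0224ca1ca6509f0], [nat_lit 173056, nat_lit 169984, nat_lit 165120, nat_lit 161408, nat_lit 159040, nat_lit 153088, nat_lit 149072, nat_lit 146072, nat_lit 142260, nat_lit 138126, nat_lit 134608, nat_lit 526, nat_lit 5992, nat_lit 8256, nat_lit 13584, nat_lit 17824, nat_lit 22400, nat_lit 26368, nat_lit 30464, nat_lit 33280, nat_lit 41200, nat_lit 36895, nat_lit 32887, nat_lit 28737, nat_lit 24730, nat_lit 20747, nat_lit 16429, nat_lit 12292, nat_lit 8193, nat_lit 4160]⟩⟩⟩]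
theorem rvcr1_2 : Suf rvT 19005990 (lapp rvwr1 [3, 0, 1]) (iC3 :: apW dcM q0) (tgtN dcM q0.e) := Suf.seg (l := lrv30) (by decide +kernel) srv31

def prv35 : AP := ⟨[nat_lit 263, nat_lit 665, nat_lit 667, nat_lit 668, nat_lit 222], [], (nat_lit 516), ⟨[nat_lit 0, nat_lit 23, nat_lit 90], [nat_lit 73, nat_lit 57], ⟨[nat_lit 0x785b21c4872bae9ad0505cd4035988], [nat_lit 171008, nat_lit 160128, nat_lit 156160, nat_lit 153088, nat_lit 147616, nat_lit 143632, nat_lit 141076, nat_lit 136506, nat_lit 131606, nat_lit 952, nat_lit 4924, nat_lit 9872, nat_lit 14256, nat_lit 17408, nat_lit 21376, nat_lit 29440, nat_lit 37888, nat_lit 41979, nat_lit 36880, nat_lit 33979, nat_lit 29820, nat_lit 24875, nat_lit 20555, nat_lit 16905, nat_lit 12305, nat_lit 8322, nat_lit 4]⟩⟩⟩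
def prv36 : AP := ⟨[nat_lit 231, nat_lit 228, nat_lit 259, nat_lit 229, nat_lit 223], [], (nat_lit 1106), ⟨[nat_lit 41, nat_lit 70], [nat_lit 0, nat_lit 41, nat_lit 66], ⟨[nat_lit 0x8d0a358b425cf56ca0e9be2c4880b], [nat_lit 169984, nat_lit 164096, nat_lit 162432, nat_lit 156800, nat_lit 153664, nat_lit 149680, nat_lit 147352, nat_lit 140916, nat_lit 135680, nat_lit 134254, nat_lit 354, nat_lit 4452, nat_lit 9376, nat_lit 12976, nat_lit 17536, nat_lit 20672, nat_lit 25216, nat_lit 29696, nat_lit 37888, nat_lit 41271, nat_lit 36975, nat_lit 32891, nat_lit 28783, nat_lit 24736, nat_lit 20625, nat_lit 16427, nat_lit 12293, nat_lit 8202, nat_lit 4101]⟩⟩⟩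
def prv37 : AP := ⟨[nat_lit 411, nat_lit 421, nat_lit 676, nat_lit 419], [], (nat_lit 904), ⟨[nat_lit 87, nat_lit 93], [nat_lit 0, nat_lit 5, nat_lit 94], ⟨[nat_lit 0x789647180a2c4f61d433636f2a2510], [nat_lit 175104, nat_lit 169472, nat_lit 164096, nat_lit 159872, nat_lit 157632, nat_lit 151776, nat_lit 148384, nat_lit 144384, nat_lit 140704, nat_lit 136242, nat_lit 132669, nat_lit 1874, nat_lit 5316, nat_lit 9240, nat_lit 14240, nat_lit 22464, nat_lit 25600, nat_lit 29440, nat_lit 33792, nat_lit 41691, nat_lit 37940, nat_lit 32773, nat_lit 29260, nat_lit 24577, nat_lit 20627, nat_lit 16416, nat_lit 12807, nat_lit 8451, nat_lit 4100, nat_lit 64]⟩⟩⟩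
def prv38 : AP := ⟨[nat_lit 53, nat_lit 641, nat_lit 51], [], (nat_lit 1040), ⟨[nat_lit 0, nat_lit 85, nat_lit 52], [nat_lit 1, nat_lit 94], ⟨[nat_lit 0x80a41424c575aec00e3359d44a3db5], [nat_lit 175104, nat_lit 168448, nat_lit 165888, nat_lit 162944, nat_lit 158912, nat_lit 153376, nat_lit 149184, nat_lit 144408, nat_lit 142632, nat_lit 138318, nat_lit 133056, nat_lit 804, nat_lit 5900, nat_lit 8288, nat_lit 13024, nat_lit 16416, nat_lit 21888, nat_lit 25728, nat_lit 30208, nat_lit 33792, nat_lit 41053, nat_lit 37290, nat_lit 32941, nat_lit 29052, nat_lit 24763, nat_lit 20484, nat_lit 16394, nat_lit 12290, nat_lit 8226, nat_lit 4097]⟩⟩⟩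
def lrv39 : List AP := [⟨[], [], (nat_lit 1034), ⟨[nat_lit 6, nat_lit 54], [nat_lit 0, nat_lit 35, nat_lit 91], ⟨[nat_lit 0x1cee890154115c16c22735aaf23169], [nat_lit 168448, nat_lit 165632, nat_lit 160128, nat_lit 156288, nat_lit 153408, nat_lit 148832, nat_lit 145400, nat_lit 140476, nat_lit 136890, nat_lit 134775, nat_lit 1478, nat_lit 5064, nat_lit 8928, nat_lit 13552, nat_lit 17024, nat_lit 20736, nat_lit 24704, nat_lit 29440, nat_lit 34304, nat_lit 37888, nat_lit 41928, nat_lit 37162, nat_lit 33308, nat_lit 28762, nat_lit 24741, nat_lit 20544, nat_lit 16424, nat_lit 12295, nat_lit 8202, nat_lit 4104]⟩⟩⟩]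
theorem srv39 : Suf rvT 2048 (ldrop (lapp rvwr1 [1, 0, 1]) 38) (apW dcM prv38) (tgtN dcM prv38.e) := Suf.fin' (l := lrv39) (by decide +kernel)
def lrv38 : List AP := [⟨[nat_lit 219, nat_lit 216, nat_lit 214, nat_lit 219], [], (nat_lit 410), ⟨[nat_lit 18, nat_lit 48], [nat_lit 16, nat_lit 90], ⟨[nat_lit 0x905742ec602a6ca1dee8d64580da9], [nat_lit 171520, nat_lit 166656, nat_lit 162688, nat_lit 157696, nat_lit 152384, nat_lit 150224, nat_lit 147368, nat_lit 139400, nat_lit 137442, nat_lit 132246, nat_lit 1066, nat_lit 5580, nat_lit 9752, nat_lit 12352, nat_lit 17664, nat_lit 20800, nat_lit 25600, nat_lit 41671, nat_lit 38350, nat_lit 33515, nat_lit 28972, nat_lit 24590, nat_lit 20767, nat_lit 16419, nat_lit 12294, nat_lit 8194, nat_lit 4101, nat_lit 2]⟩⟩⟩,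
  ⟨[nat_lit 659, nat_lit 219, nat_lit 176], [], (nat_lit 1088), ⟨[nat_lit 0, nat_lit 88], [nat_lit 33, nat_lit 52], ⟨[nat_lit 0x7120094eca59687ba5ec899a345441], [nat_lit 170496, nat_lit 164352, nat_lit 161152, nat_lit 159680, nat_lit 152832, nat_lit 147776, nat_lit 146016, nat_lit 143152, nat_lit 138582, nat_lit 133876, nat_lit 588, nat_lit 4100, nat_lit 9384, nat_lit 13728, nat_lit 17728, nat_lit 22464, nat_lit 25344, nat_lit 29952, nat_lit 34304, nat_lit 37888, nat_lit 41743, nat_lit 37234, nat_lit 33447, nat_lit 28987, nat_lit 24628, nat_lit 20490, nat_lit 16451, nat_lit 12295, nat_lit 4097]⟩⟩⟩]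
theorem srv38 : Suf rvT 2048 (ldrop (lapp rvwr1 [1, 0, 1]) 30) (apW dcM prv37) (tgtN dcM prv37.e) := Suf.seg (l := lrv38) (by decide +kernel) srv39
def lrv37 : List AP := [⟨[nat_lit 229, nat_lit 266, nat_lit 667, nat_lit 263, nat_lit 222], [], (nat_lit 516), ⟨[nat_lit 35, nat_lit 46], [nat_lit 30, nat_lit 92], ⟨[nat_lit 0x945c758ed00104c4a1a67d2a59dd41], [nat_lit 173056, nat_lit 168960, nat_lit 164096, nat_lit 161280, nat_lit 156800, nat_lit 152064, nat_lit 149088, nat_lit 147016, nat_lit 139396, nat_lit 135364, nat_lit 131979, nat_lit 1808, nat_lit 4104, nat_lit 9064, nat_lit 14000, nat_lit 17952, nat_lit 20672, nat_lit 24704, nat_lit 29440, nat_lit 34304, nat_lit 37888, nat_lit 41464, nat_lit 37089, nat_lit 32920, nat_lit 29003, nat_lit 24600, nat_lit 20487, nat_lit 16392, nat_lit 12311, nat_lit 8193, nat_lit 4097, nat_lit 2]⟩⟩⟩,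
  ⟨[nat_lit 233, nat_lit 667, nat_lit 230], [], (nat_lit 1118), ⟨[nat_lit 0, nat_lit 8, nat_lit 90], [nat_lit 0, nat_lit 36, nat_lit 54], ⟨[nat_lit 0xa888679e480a68ab023360eee5c1a5], [nat_lit 175104, nat_lit 168960, nat_lit 165376, nat_lit 163072, nat_lit 157376, nat_lit 152416, nat_lit 149968, nat_lit 147344, nat_lit 141932, nat_lit 139210, nat_lit 133409, nat_lit 1054, nat_lit 5488, nat_lit 10224, nat_lit 13856, nat_lit 17248, nat_lit 20736, nat_lit 24832, nat_lit 28928, nat_lit 33792, nat_lit 41641, nat_lit 38184, nat_lit 32944, nat_lit 28762, nat_lit 24731, nat_lit 20753, nat_lit 16527, nat_lit 12291, nat_lit 8208]⟩⟩⟩]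
theorem srv37 : Suf rvT 2048 (ldrop (lapp rvwr1 [1, 0, 1]) 20) (apW dcM prv36) (tgtN dcM prv36.e) := Suf.seg (l := lrv37) (by decide +kernel) srv38
def lrv36 : List AP := [⟨[nat_lit 229, nat_lit 265, nat_lit 260, nat_lit 261], [], (nat_lit 516), ⟨[nat_lit 0, nat_lit 4, nat_lit 59], [nat_lit 0, nat_lit 16, nat_lit 92], ⟨[nat_lit 0x4c376094434ac5a41cd79c698ad15], [nat_lit 173056, nat_lit 168448, nat_lit 164096, nat_lit 161280, nat_lit 155712, nat_lit 152512, nat_lit 148720, nat_lit 144848, nat_lit 142304, nat_lit 135940, nat_lit 133005, nat_lit 1766, nat_lit 4824, nat_lit 8448, nat_lit 13328, nat_lit 17984, nat_lit 21632, nat_lit 26368, nat_lit 30208, nat_lit 34304, nat_lit 37888, nat_lit 41709, nat_lit 38364, nat_lit 33446, nat_lit 29003, nat_lit 24596, nat_lit 21006, nat_lit 16421, nat_lit 12310, nat_lit 8194, nat_lit 4100]⟩⟩⟩,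
  ⟨[nat_lit 224, nat_lit 264, nat_lit 265, nat_lit 223], [], (nat_lit 1110), ⟨[nat_lit 20, nat_lit 50], [nat_lit 0, nat_lit 34, nat_lit 93], ⟨[nat_lit 0x2ccc283980b350725de95aa21ac874], [nat_lit 175104, nat_lit 170496, nat_lit 167168, nat_lit 161920, nat_lit 155776, nat_lit 154208, nat_lit 149952, nat_lit 145296, nat_lit 143232, nat_lit 136916, nat_lit 132410, nat_lit 1730, nat_lit 4104, nat_lit 10160, nat_lit 12320, nat_lit 18304, nat_lit 26240, nat_lit 29696, nat_lit 33280, nat_lit 41173, nat_lit 36994, nat_lit 32858, nat_lit 29190, nat_lit 24623, nat_lit 20496, nat_lit 16430, nat_lit 12307, nat_lit 4112, nat_lit 8]⟩⟩⟩]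
theorem srv36 : Suf rvT 2048 (ldrop (lapp rvwr1 [1, 0, 1]) 12) (apW dcM prv35) (tgtN dcM prv35.e) := Suf.seg (l := lrv36) (by decide +kernel) srv37
def lrv35 : List AP := [⟨[nat_lit 32, nat_lit 30, nat_lit 22, nat_lit 638, nat_lit 27, nat_lit 21], [], (nat_lit 338), ⟨[nat_lit 83, nat_lit 51], [nat_lit 16, nat_lit 65], ⟨[nat_lit 0x99aca205e70218b2c135b89d488e4d], [nat_lit 173056, nat_lit 165632, nat_lit 161152, nat_lit 157568, nat_lit 152160, nat_lit 147872, nat_lit 144792, nat_lit 140592, nat_lit 138878, nat_lit 131829, nat_lit 494, nat_lit 9968, nat_lit 12800, nat_lit 17728, nat_lit 20992, nat_lit 25344, nat_lit 30208, nat_lit 33792, nat_lit 37888, nat_lit 41910, nat_lit 38364, nat_lit 33801, nat_lit 29049, nat_lit 24757, nat_lit 20572, nat_lit 16449, nat_lit 12325, nat_lit 8225]⟩⟩⟩,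
  ⟨[nat_lit 175, nat_lit 219, nat_lit 170, nat_lit 171, nat_lit 170], [], (nat_lit 486), ⟨[nat_lit 13, nat_lit 59], [nat_lit 76, nat_lit 60], ⟨[nat_lit 0x1b081a0a48ac4093356abd8af9c1c7], [nat_lit 168448, nat_lit 164864, nat_lit 161536, nat_lit 157312, nat_lit 153568, nat_lit 148576, nat_lit 145288, nat_lit 142444, nat_lit 135826, nat_lit 132272, nat_lit 1178, nat_lit 6068, nat_lit 8256, nat_lit 12784, nat_lit 18112, nat_lit 20800, nat_lit 24832, nat_lit 28928, nat_lit 33792, nat_lit 41555, nat_lit 38167, nat_lit 33529, nat_lit 28740, nat_lit 24580, nat_lit 20498, nat_lit 16396, nat_lit 12309, nat_lit 4128]⟩⟩⟩]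
theorem rvcr1_3 : Suf rvT 2048 (lapp rvwr1 [1, 0, 1]) (apW dcM q1) (tgtN dcM q1.e) := Suf.seg (l := lrv35) (by decide +kernel) srv36

def prv40 : AP := ⟨[nat_lit 178, nat_lit 178, nat_lit 214, nat_lit 215], [], (nat_lit 750), ⟨[nat_lit 0, nat_lit 21, nat_lit 89], [nat_lit 0, nat_lit 77, nat_lit 47], ⟨[nat_lit 0x550ce4013062cb5885af190f2bcc56], [nat_lit 173056, nat_lit 168960, nat_lit 164352, nat_lit 160768, nat_lit 157440, nat_lit 153216, nat_lit 148864, nat_lit 144976, nat_lit 140684, nat_lit 137168, nat_lit 134446, nat_lit 700, nat_lit 4340, nat_lit 9928, nat_lit 12976, nat_lit 17504, nat_lit 20800, nat_lit 29440, nat_lit 33280, nat_lit 41765, nat_lit 37191, nat_lit 33005, nat_lit 28794, nat_lit 24597, nat_lit 20611, nat_lit 16389, nat_lit 12292, nat_lit 8202, nat_lit 4101, nat_lit 2]⟩⟩⟩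
def prv41 : AP := ⟨[nat_lit 288, nat_lit 671, nat_lit 353, nat_lit 356], [], (nat_lit 698), ⟨[nat_lit 0, nat_lit 85, nat_lit 67], [nat_lit 15, nat_lit 65], ⟨[nat_lit 0x589566a6647b281a98e3946e0838a8], [nat_lit 175104, nat_lit 166912, nat_lit 161792, nat_lit 158272, nat_lit 152608, nat_lit 147856, nat_lit 143472, nat_lit 141764, nat_lit 138856, nat_lit 132692, nat_lit 256, nat_lit 5444, nat_lit 10032, nat_lit 13296, nat_lit 16640, nat_lit 21120, nat_lit 25344, nat_lit 28928, nat_lit 37888, nat_lit 41858, nat_lit 38267, nat_lit 33912, nat_lit 28743, nat_lit 24725, nat_lit 20753, nat_lit 16449, nat_lit 12321, nat_lit 8194, nat_lit 16]⟩⟩⟩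
def prv42 : AP := ⟨[nat_lit 671, nat_lit 289, nat_lit 287, nat_lit 672, nat_lit 284], [], (nat_lit 1152), ⟨[nat_lit 45, nat_lit 50], [nat_lit 0, nat_lit 33, nat_lit 48], ⟨[nat_lit 0x14ae664d116a6b68500453c235b8a7], [nat_lit 170496, nat_lit 165632, nat_lit 159872, nat_lit 158848, nat_lit 152384, nat_lit 149008, nat_lit 146584, nat_lit 141864, nat_lit 139250, nat_lit 133472, nat_lit 1054, nat_lit 4952, nat_lit 8672, nat_lit 12416, nat_lit 18112, nat_lit 21440, nat_lit 25728, nat_lit 29952, nat_lit 34304, nat_lit 41913, nat_lit 38184, nat_lit 32961, nat_lit 28683, nat_lit 24848, nat_lit 21512, nat_lit 16393, nat_lit 12306, nat_lit 8193, nat_lit 4104, nat_lit 2]⟩⟩⟩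
def prv43 : AP := ⟨[nat_lit 672, nat_lit 669, nat_lit 352, nat_lit 357, nat_lit 284], [], (nat_lit 674), ⟨[nat_lit 0, nat_lit 41, nat_lit 68], [nat_lit 0, nat_lit 45, nat_lit 46], ⟨[nat_lit 0xb4485ac1cc55e68a00723242d3bd62], [nat_lit 164864, nat_lit 161280, nat_lit 157824, nat_lit 152768, nat_lit 148688, nat_lit 143400, nat_lit 140648, nat_lit 135936, nat_lit 132896, nat_lit 1178, nat_lit 5016, nat_lit 10088, nat_lit 14112, nat_lit 17696, nat_lit 21056, nat_lit 24704, nat_lit 28928, nat_lit 41430, nat_lit 37276, nat_lit 32960, nat_lit 28954, nat_lit 24622, nat_lit 20558, nat_lit 16525, nat_lit 12293, nat_lit 8201, nat_lit 8]⟩⟩⟩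
def prv44 : AP := ⟨[nat_lit 291, nat_lit 354], [], (nat_lit 1124), ⟨[nat_lit 0, nat_lit 37, nat_lit 55], [nat_lit 0, nat_lit 36, nat_lit 58], ⟨[nat_lit 0x7990c936c12ac62ac40ea289799d30], [nat_lit 168960, nat_lit 166400, nat_lit 161792, nat_lit 158464, nat_lit 154432, nat_lit 147600, nat_lit 146192, nat_lit 143280, nat_lit 135464, nat_lit 133641, nat_lit 428, nat_lit 5508, nat_lit 8432, nat_lit 13120, nat_lit 18112, nat_lit 20800, nat_lit 30208, nat_lit 34304, nat_lit 41914, nat_lit 38238, nat_lit 32773, nat_lit 28689, nat_lit 25107, nat_lit 20507, nat_lit 16392, nat_lit 12310, nat_lit 8194, nat_lit 4097]⟩⟩⟩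
def lrv45 : List AP := [⟨[nat_lit 68, nat_lit 47], [], (nat_lit 122), ⟨[nat_lit 21, nat_lit 92], [nat_lit 0, nat_lit 15, nat_lit 91], ⟨[nat_lit 0x7ddd54994704c522ad041c03163696], [nat_lit 175104, nat_lit 168960, nat_lit 165376, nat_lit 161536, nat_lit 156352, nat_lit 151712, nat_lit 147808, nat_lit 144160, nat_lit 140580, nat_lit 136740, nat_lit 132004, nat_lit 1720, nat_lit 4380, nat_lit 9040, nat_lit 13072, nat_lit 20992, nat_lit 25344, nat_lit 33280, nat_lit 37888, nat_lit 41280, nat_lit 37095, nat_lit 33872, nat_lit 29241, nat_lit 24757, nat_lit 20572, nat_lit 16423, nat_lit 12353, nat_lit 8193, nat_lit 4104]⟩⟩⟩,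
  ⟨[nat_lit 37, nat_lit 41], [], (nat_lit 1032), ⟨[nat_lit 23, nat_lit 94], [nat_lit 13, nat_lit 57], ⟨[nat_lit 0x91221adc458512e19daf501065cd96], [nat_lit 175104, nat_lit 168960, nat_lit 164608, nat_lit 161280, nat_lit 157952, nat_lit 153632, nat_lit 150704, nat_lit 143816, nat_lit 143228, nat_lit 135912, nat_lit 134593, nat_lit 902, nat_lit 4340, nat_lit 9928, nat_lit 13344, nat_lit 17920, nat_lit 20928, nat_lit 25472, nat_lit 28928, nat_lit 33792, nat_lit 41372, nat_lit 37123, nat_lit 32999, nat_lit 29000, nat_lit 24840, nat_lit 20497, nat_lit 16430, nat_lit 12289, nat_lit 8194, nat_lit 4101, nat_lit 2]⟩⟩⟩]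
theorem srv45 : Suf rvT 19005990 (ldrop (lapp rvwr2 [1, 0, 1]) 51) (apW dcM prv44) (tgtN dcM prv44.e) := Suf.fin' (l := lrv45) (by decide +kernel)
def lrv44 : List AP := [⟨[nat_lit 355, nat_lit 287, nat_lit 295, nat_lit 354, nat_lit 284], [], (nat_lit 776), ⟨[nat_lit 0, nat_lit 30, nat_lit 47], [nat_lit 76, nat_lit 47], ⟨[nat_lit 0x11c815601bccc78ad36515836ca8f], [nat_lit 174080, nat_lit 169984, nat_lit 165376, nat_lit 163072, nat_lit 158016, nat_lit 154176, nat_lit 144000, nat_lit 139520, nat_lit 138428, nat_lit 133933, nat_lit 394, nat_lit 4164, nat_lit 8256, nat_lit 14144, nat_lit 16736, nat_lit 20736, nat_lit 26368, nat_lit 33792, nat_lit 37888, nat_lit 41385, nat_lit 36969, nat_lit 34007, nat_lit 29786, nat_lit 24732, nat_lit 20489, nat_lit 16514, nat_lit 12290, nat_lit 8258, nat_lit 4105]⟩⟩⟩,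
  ⟨[nat_lit 294, nat_lit 671, nat_lit 354, nat_lit 355], [], (nat_lit 1160), ⟨[nat_lit 31, nat_lit 48], [nat_lit 7, nat_lit 69], ⟨[nat_lit 0x1a2895122d03ecc595d235ce29c2a1], [nat_lit 173056, nat_lit 168448, nat_lit 164864, nat_lit 160768, nat_lit 156032, nat_lit 152960, nat_lit 149984, nat_lit 144624, nat_lit 140708, nat_lit 136016, nat_lit 131134, nat_lit 1760, nat_lit 4112, nat_lit 9464, nat_lit 13488, nat_lit 16448, nat_lit 22080, nat_lit 25984, nat_lit 30208, nat_lit 33280, nat_lit 41293, nat_lit 37328, nat_lit 32976, nat_lit 28679, nat_lit 24885, nat_lit 20555, nat_lit 16396, nat_lit 12307, nat_lit 8203, nat_lit 4097, nat_lit 2]⟩⟩⟩]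
theorem srv44 : Suf rvT 19005990 (ldrop (lapp rvwr2 [1, 0, 1]) 41) (apW dcM prv43) (tgtN dcM prv43.e) := Suf.seg (l := lrv44) (by decide +kernel) srv45
def lrv43 : List AP := [⟨[nat_lit 228, nat_lit 667, nat_lit 224, nat_lit 664], [], (nat_lit 506), ⟨[nat_lit 0, nat_lit 44, nat_lit 48], [nat_lit 23, nat_lit 66], ⟨[nat_lit 0xbb4ce13d109280ca2c899d4b1b04e3], [nat_lit 175104, nat_lit 170496, nat_lit 166400, nat_lit 161536, nat_lit 159488, nat_lit 154944, nat_lit 148816, nat_lit 146512, nat_lit 140624, nat_lit 136536, nat_lit 131407, nat_lit 1174, nat_lit 4104, nat_lit 9768, nat_lit 12800, nat_lit 16768, nat_lit 22336, nat_lit 25088, nat_lit 29184, nat_lit 34304, nat_lit 37888, nat_lit 41973, nat_lit 38109, nat_lit 33446, nat_lit 28712, nat_lit 24616, nat_lit 20500, nat_lit 16428, nat_lit 12311, nat_lit 8201, nat_lit 4101, nat_lit 2]⟩⟩⟩,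
  ⟨[nat_lit 667, nat_lit 667, nat_lit 260, nat_lit 259], [], (nat_lit 699), ⟨[nat_lit 0, nat_lit 11, nat_lit 57], [nat_lit 59], ⟨[nat_lit 0x64ced880c12c295249484bae25bec3], [nat_lit 173056, nat_lit 168960, nat_lit 165376, nat_lit 156608, nat_lit 153184, nat_lit 149008, nat_lit 144024, nat_lit 139788, nat_lit 135860, nat_lit 134335, nat_lit 8, nat_lit 4456, nat_lit 10088, nat_lit 12976, nat_lit 17600, nat_lit 22464, nat_lit 24704, nat_lit 30208, nat_lit 33792, nat_lit 37888, nat_lit 40981, nat_lit 37305, nat_lit 33280, nat_lit 28780, nat_lit 24719, nat_lit 20551, nat_lit 16652, nat_lit 12291, nat_lit 8208, nat_lit 4105]⟩⟩⟩]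
theorem srv43 : Suf rvT 19005990 (ldrop (lapp rvwr2 [1, 0, 1]) 33) (apW dcM prv42) (tgtN dcM prv42.e) := Suf.seg (l := lrv43) (by decide +kernel) srv44
def lrv42 : List AP := [⟨[nat_lit 223, nat_lit 665, nat_lit 227, nat_lit 226], [], (nat_lit 606), ⟨[nat_lit 37, nat_lit 64], [nat_lit 0, nat_lit 31, nat_lit 49], ⟨[nat_lit 0x5044690eef3a1cc682d0a11355c665], [nat_lit 173056, nat_lit 165376, nat_lit 160128, nat_lit 156352, nat_lit 153472, nat_lit 148864, nat_lit 145936, nat_lit 139388, nat_lit 136500, nat_lit 132092, nat_lit 718, nat_lit 4952, nat_lit 9768, nat_lit 12416, nat_lit 17056, nat_lit 21440, nat_lit 25600, nat_lit 29184, nat_lit 41976, nat_lit 38227, nat_lit 33840, nat_lit 28702, nat_lit 24872, nat_lit 20552, nat_lit 16515, nat_lit 12290, nat_lit 8209, nat_lit 4105, nat_lit 2]⟩⟩⟩,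
  ⟨[nat_lit 288, nat_lit 352, nat_lit 355, nat_lit 351], [], (nat_lit 668), ⟨[nat_lit 0, nat_lit 26, nat_lit 90], [nat_lit 15, nat_lit 62], ⟨[nat_lit 0x8aaab0d0722204cb9cb0034c99d9cf], [nat_lit 173056, nat_lit 168960, nat_lit 165632, nat_lit 160896, nat_lit 155776, nat_lit 155104, nat_lit 148432, nat_lit 144944, nat_lit 139736, nat_lit 136920, nat_lit 131271, nat_lit 1488, nat_lit 4136, nat_lit 8408, nat_lit 14144, nat_lit 17664, nat_lit 22208, nat_lit 26240, nat_lit 29184, nat_lit 34304, nat_lit 37888, nat_lit 41541, nat_lit 38381, nat_lit 33288, nat_lit 28992, nat_lit 24608, nat_lit 20562, nat_lit 16390, nat_lit 12295, nat_lit 8202, nat_lit 4105, nat_lit 4]⟩⟩⟩]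
theorem srv42 : Suf rvT 19005990 (ldrop (lapp rvwr2 [1, 0, 1]) 23) (apW dcM prv41) (tgtN dcM prv41.e) := Suf.seg (l := lrv42) (by decide +kernel) srv43
def lrv41 : List AP := [⟨[nat_lit 289, nat_lit 357, nat_lit 356, nat_lit 292], [], (nat_lit 658), ⟨[nat_lit 32, nat_lit 57], [nat_lit 0, nat_lit 37, nat_lit 94], ⟨[nat_lit 0x902687c4f6a287773029342ad28964], [nat_lit 173056, nat_lit 171008, nat_lit 165120, nat_lit 160896, nat_lit 157312, nat_lit 152832, nat_lit 148288, nat_lit 144048, nat_lit 139692, nat_lit 136002, nat_lit 132808, nat_lit 508, nat_lit 4568, nat_lit 8704, nat_lit 13968, nat_lit 16896, nat_lit 21248, nat_lit 25344, nat_lit 29952, nat_lit 34304, nat_lit 41792, nat_lit 37995, nat_lit 32910, nat_lit 28743, nat_lit 24581, nat_lit 21003, nat_lit 16385, nat_lit 12550, nat_lit 16]⟩⟩⟩,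
  ⟨[nat_lit 139, nat_lit 140, nat_lit 656, nat_lit 143, nat_lit 141], [], (nat_lit 738), ⟨[nat_lit 0, nat_lit 43, nat_lit 91], [nat_lit 46], ⟨[nat_lit 0x1a8465d6c795de10468c6b9259a090], [nat_lit 175104, nat_lit 170496, nat_lit 165632, nat_lit 162176, nat_lit 159232, nat_lit 154656, nat_lit 148144, nat_lit 144080, nat_lit 141108, nat_lit 137972, nat_lit 133823, nat_lit 1698, nat_lit 5588, nat_lit 9704, nat_lit 13792, nat_lit 18240, nat_lit 24704, nat_lit 30208, nat_lit 34304, nat_lit 41661, nat_lit 37094, nat_lit 32971, nat_lit 29016, nat_lit 24596, nat_lit 20999, nat_lit 16453, nat_lit 12551, nat_lit 8201, nat_lit 4224]⟩⟩⟩]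
theorem srv41 : Suf rvT 19005990 (ldrop (lapp rvwr2 [1, 0, 1]) 15) (apW dcM prv40) (tgtN dcM prv40.e) := Suf.seg (l := lrv41) (by decide +kernel) srv42
def lrv40 : List AP := [⟨[nat_lit 14, nat_lit 38, nat_lit 16, nat_lit 42, nat_lit 633, nat_lit 14], [], (nat_lit 90), ⟨[nat_lit 0, nat_lit 6, nat_lit 47], [nat_lit 10, nat_lit 91], ⟨[nat_lit 0x5b5263bc222b2721a2160555175c94], [nat_lit 175104, nat_lit 169984, nat_lit 165888, nat_lit 161024, nat_lit 157696, nat_lit 155104, nat_lit 149312, nat_lit 145864, nat_lit 139436, nat_lit 136990, nat_lit 131662, nat_lit 1108, nat_lit 4948, nat_lit 10128, nat_lit 14144, nat_lit 17792, nat_lit 21504, nat_lit 26240, nat_lit 28928, nat_lit 33792, nat_lit 37888, nat_lit 41803, nat_lit 36974, nat_lit 34014, nat_lit 28731, nat_lit 25106, nat_lit 20488, nat_lit 16452, nat_lit 12292, nat_lit 8201, nat_lit 4225, nat_lit 4]⟩⟩⟩,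
  ⟨[nat_lit 642, nat_lit 639, nat_lit 57, nat_lit 68, nat_lit 70], [], (nat_lit 368), ⟨[nat_lit 0, nat_lit 38, nat_lit 90], [nat_lit 0, nat_lit 14, nat_lit 46], ⟨[nat_lit 0x93e0d05877156813248a9b1d141d65], [nat_lit 171008, nat_lit 164608, nat_lit 162304, nat_lit 157120, nat_lit 154720, nat_lit 150096, nat_lit 145912, nat_lit 140096, nat_lit 136332, nat_lit 135143, nat_lit 568, nat_lit 4952, nat_lit 9592, nat_lit 14240, nat_lit 16672, nat_lit 21568, nat_lit 25856, nat_lit 28928, nat_lit 33280, nat_lit 37888, nat_lit 41759, nat_lit 36969, nat_lit 32978, nat_lit 28717, nat_lit 24838, nat_lit 20609, nat_lit 16453, nat_lit 12325, nat_lit 8194, nat_lit 4097]⟩⟩⟩]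
theorem rvcr2_0 : Suf rvT 19005990 (lapp rvwr2 [1, 0, 1]) (apW dcM q0) (tgtN dcM q0.e) := Suf.seg (l := lrv40) (by decide +kernel) srv41

def prv46 : AP := ⟨[nat_lit 170, nat_lit 218, nat_lit 180, nat_lit 213], [], (nat_lit 1092), ⟨[nat_lit 0, nat_lit 31, nat_lit 54], [nat_lit 22, nat_lit 50], ⟨[nat_lit 0x3b9a5b552b04e4333c8c1403145e8a], [nat_lit 174080, nat_lit 171008, nat_lit 163456, nat_lit 157952, nat_lit 153888, nat_lit 148464, nat_lit 143616, nat_lit 139492, nat_lit 138938, nat_lit 133382, nat_lit 1842, nat_lit 4964, nat_lit 8344, nat_lit 13040, nat_lit 17344, nat_lit 20608, nat_lit 24704, nat_lit 28928, nat_lit 37888, nat_lit 41937, nat_lit 38370, nat_lit 34026, nat_lit 29774, nat_lit 25638, nat_lit 20550, nat_lit 16385, nat_lit 12422, nat_lit 8257, nat_lit 4101, nat_lit 2]⟩⟩⟩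
def prv47 : AP := ⟨[nat_lit 357, nat_lit 357, nat_lit 284, nat_lit 292], [], (nat_lit 700), ⟨[nat_lit 0, nat_lit 86, nat_lit 46], [nat_lit 0, nat_lit 20, nat_lit 53], ⟨[nat_lit 0x3ba605845625d06846a963d5493465], [nat_lit 169472, nat_lit 164096, nat_lit 155776, nat_lit 152928, nat_lit 148928, nat_lit 145208, nat_lit 141172, nat_lit 138736, nat_lit 132462, nat_lit 364, nat_lit 4104, nat_lit 8680, nat_lit 16896, nat_lit 20608, nat_lit 24960, nat_lit 29952, nat_lit 41570, nat_lit 38276, nat_lit 32940, nat_lit 28693, nat_lit 25105, nat_lit 20568, nat_lit 16461, nat_lit 12290, nat_lit 8224, nat_lit 4]⟩⟩⟩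
def prv48 : AP := ⟨[nat_lit 292, nat_lit 295, nat_lit 295, nat_lit 673], [], (nat_lit 680), ⟨[nat_lit 84, nat_lit 48], [nat_lit 0, nat_lit 36, nat_lit 89], ⟨[nat_lit 0x80c0c418379b52ab104b3be2575692], [nat_lit 175104, nat_lit 165376, nat_lit 161024, nat_lit 156928, nat_lit 151616, nat_lit 147888, nat_lit 144056, nat_lit 140232, nat_lit 135612, nat_lit 131074, nat_lit 1762, nat_lit 4380, nat_lit 10160, nat_lit 13184, nat_lit 17888, nat_lit 21504, nat_lit 24704, nat_lit 29184, nat_lit 33280, nat_lit 37888, nat_lit 41064, nat_lit 37166, nat_lit 33464, nat_lit 28950, nat_lit 25635, nat_lit 20482, nat_lit 16646, nat_lit 12359, nat_lit 8201, nat_lit 4128, nat_lit 4]⟩⟩⟩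
def prv49 : AP := ⟨[nat_lit 284, nat_lit 294, nat_lit 355, nat_lit 291], [], (nat_lit 686), ⟨[nat_lit 0, nat_lit 33, nat_lit 60], [nat_lit 0, nat_lit 27, nat_lit 60], ⟨[nat_lit 0x559275c1e01b91315c25a31a689255], [nat_lit 173056, nat_lit 165632, nat_lit 161536, nat_lit 157696, nat_lit 153248, nat_lit 148480, nat_lit 144032, nat_lit 140528, nat_lit 135300, nat_lit 132586, nat_lit 1698, nat_lit 5792, nat_lit 8744, nat_lit 13664, nat_lit 17408, nat_lit 21888, nat_lit 29440, nat_lit 33280, nat_lit 41078, nat_lit 36936, nat_lit 32960, nat_lit 28679, nat_lit 24579, nat_lit 21507, nat_lit 16421, nat_lit 12800, nat_lit 8225, nat_lit 4161]⟩⟩⟩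
def prv50 : AP := ⟨[nat_lit 670, nat_lit 671, nat_lit 288], [], (nat_lit 1218), ⟨[nat_lit 23, nat_lit 58], [nat_lit 0, nat_lit 25, nat_lit 47], ⟨[nat_lit 0x99a850a4ee029a4bae08a88727c596], [nat_lit 174080, nat_lit 168448, nat_lit 166656, nat_lit 163200, nat_lit 159360, nat_lit 152416, nat_lit 148640, nat_lit 144048, nat_lit 141776, nat_lit 138940, nat_lit 131134, nat_lit 1918, nat_lit 4924, nat_lit 9648, nat_lit 14176, nat_lit 16768, nat_lit 22464, nat_lit 24960, nat_lit 37888, nat_lit 41582, nat_lit 37973, nat_lit 32794, nat_lit 28722, nat_lit 25648, nat_lit 20616, nat_lit 16394, nat_lit 12304, nat_lit 8256, nat_lit 4100]⟩⟩⟩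
def lrv51 : List AP := [⟨[nat_lit 81], [], (nat_lit 196), ⟨[nat_lit 0, nat_lit 18, nat_lit 51], [nat_lit 36, nat_lit 64], ⟨[nat_lit 0x8a1848526031ec34be455a8556b837], [nat_lit 164352, nat_lit 160768, nat_lit 157568, nat_lit 154944, nat_lit 149248, nat_lit 145176, nat_lit 140948, nat_lit 135852, nat_lit 132788, nat_lit 1108, nat_lit 4128, nat_lit 10128, nat_lit 13712, nat_lit 17664, nat_lit 21760, nat_lit 26240, nat_lit 30464, nat_lit 33792, nat_lit 37888, nat_lit 41815, nat_lit 38364, nat_lit 34039, nat_lit 28724, nat_lit 24613, nat_lit 20496, nat_lit 16423, nat_lit 12289]⟩⟩⟩,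
  ⟨[nat_lit 41, nat_lit 36], [], (nat_lit 1032), ⟨[nat_lit 0, nat_lit 11, nat_lit 66], [nat_lit 43, nat_lit 59], ⟨[nat_lit 0xb2c4e8998d950958150a7dd2300667], [nat_lit 175104, nat_lit 164352, nat_lit 161536, nat_lit 157440, nat_lit 151776, nat_lit 148848, nat_lit 143832, nat_lit 140452, nat_lit 135964, nat_lit 132918, nat_lit 158, nat_lit 4816, nat_lit 8344, nat_lit 13008, nat_lit 18112, nat_lit 22272, nat_lit 25856, nat_lit 30464, nat_lit 34304, nat_lit 37888, nat_lit 41963, nat_lit 37302, nat_lit 32981, nat_lit 28702, nat_lit 24886, nat_lit 20508, nat_lit 16392, nat_lit 12311, nat_lit 8201, nat_lit 4101]⟩⟩⟩]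
theorem srv51 : Suf rvT 19005990 (ldrop (lapp rvwr2 [2, 0, 1]) 51) (apW dcM prv50) (tgtN dcM prv50.e) := Suf.fin' (l := lrv51) (by decide +kernel)
def lrv50 : List AP := [⟨[nat_lit 233, nat_lit 223, nat_lit 664, nat_lit 228], [], (nat_lit 545), ⟨[nat_lit 6, nat_lit 67], [nat_lit 0, nat_lit 20, nat_lit 54], ⟨[nat_lit 0x2d92354227bac5bccf0550896c468], [nat_lit 175104, nat_lit 170496, nat_lit 164864, nat_lit 162048, nat_lit 159616, nat_lit 155264, nat_lit 145384, nat_lit 139980, nat_lit 138536, nat_lit 133189, nat_lit 2018, nat_lit 5636, nat_lit 8704, nat_lit 12544, nat_lit 17344, nat_lit 24960, nat_lit 29440, nat_lit 33280, nat_lit 37888, nat_lit 41761, nat_lit 37127, nat_lit 32961, nat_lit 28944, nat_lit 24724, nat_lit 21504, nat_lit 16514, nat_lit 12290, nat_lit 8256, nat_lit 4105]⟩⟩⟩,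
  ⟨[nat_lit 266, nat_lit 226, nat_lit 263, nat_lit 228, nat_lit 223], [], (nat_lit 638), ⟨[nat_lit 34, nat_lit 65], [nat_lit 86, nat_lit 60], ⟨[nat_lit 0x9244d250a71a26fb56e682c0e8854c], [nat_lit 173056, nat_lit 168448, nat_lit 164352, nat_lit 160384, nat_lit 156736, nat_lit 155552, nat_lit 148112, nat_lit 145096, nat_lit 140608, nat_lit 136642, nat_lit 133075, nat_lit 1580, nat_lit 4380, nat_lit 8504, nat_lit 13440, nat_lit 16512, nat_lit 22464, nat_lit 25984, nat_lit 29952, nat_lit 37888, nat_lit 41566, nat_lit 37344, nat_lit 33408, nat_lit 28789, nat_lit 24631, nat_lit 20481, nat_lit 16459, nat_lit 12308, nat_lit 8194, nat_lit 4097, nat_lit 2]⟩⟩⟩]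
theorem srv50 : Suf rvT 19005990 (ldrop (lapp rvwr2 [2, 0, 1]) 41) (apW dcM prv49) (tgtN dcM prv49.e) := Suf.seg (l := lrv50) (by decide +kernel) srv51
def lrv49 : List AP := [⟨[nat_lit 228, nat_lit 259, nat_lit 264], [], (nat_lit 1106), ⟨[nat_lit 0, nat_lit 45, nat_lit 94], [nat_lit 0, nat_lit 14, nat_lit 54], ⟨[nat_lit 0x54ee64b4288c00f614e35d64415a8e], [nat_lit 173056, nat_lit 168448, nat_lit 166144, nat_lit 162560, nat_lit 158528, nat_lit 153888, nat_lit 148720, nat_lit 147032, nat_lit 142660, nat_lit 136202, nat_lit 133689, nat_lit 1624, nat_lit 4128, nat_lit 9040, nat_lit 13136, nat_lit 17632, nat_lit 20672, nat_lit 26112, nat_lit 30208, nat_lit 33792, nat_lit 37888, nat_lit 41966, nat_lit 38185, nat_lit 32861, nat_lit 29282, nat_lit 24888, nat_lit 20485, nat_lit 16389, nat_lit 12548, nat_lit 4608]⟩⟩⟩,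
  ⟨[nat_lit 668, nat_lit 227, nat_lit 260, nat_lit 223], [], (nat_lit 610), ⟨[nat_lit 11, nat_lit 66], [nat_lit 21, nat_lit 69], ⟨[nat_lit 0x15eac1b8c47a0299d965036303aa54], [nat_lit 175104, nat_lit 171008, nat_lit 166656, nat_lit 162048, nat_lit 155840, nat_lit 154272, nat_lit 150544, nat_lit 144800, nat_lit 142820, nat_lit 135266, nat_lit 131920, nat_lit 1842, nat_lit 4412, nat_lit 10128, nat_lit 13328, nat_lit 16448, nat_lit 29184, nat_lit 34304, nat_lit 37888, nat_lit 41927, nat_lit 38371, nat_lit 33891, nat_lit 28928, nat_lit 24628, nat_lit 20486, nat_lit 16448, nat_lit 12289, nat_lit 8193, nat_lit 4128, nat_lit 4]⟩⟩⟩]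
theorem srv49 : Suf rvT 19005990 (ldrop (lapp rvwr2 [2, 0, 1]) 33) (apW dcM prv48) (tgtN dcM prv48.e) := Suf.seg (l := lrv49) (by decide +kernel) srv50
def lrv48 : List AP := [⟨[nat_lit 223, nat_lit 225, nat_lit 666, nat_lit 222, nat_lit 222], [], (nat_lit 756), ⟨[nat_lit 38, nat_lit 57], [nat_lit 0, nat_lit 87, nat_lit 63], ⟨[nat_lit 0xc53321c4891aaf58dae0515685cac], [nat_lit 175104, nat_lit 168960, nat_lit 164352, nat_lit 162432, nat_lit 156608, nat_lit 152832, nat_lit 149616, nat_lit 147328, nat_lit 142696, nat_lit 138856, nat_lit 134872, nat_lit 1440, nat_lit 4540, nat_lit 8528, nat_lit 14160, nat_lit 17920, nat_lit 22144, nat_lit 24832, nat_lit 29952, nat_lit 34304, nat_lit 41507, nat_lit 38388, nat_lit 33328, nat_lit 28684, nat_lit 24868, nat_lit 20759, nat_lit 16426, nat_lit 12305, nat_lit 8194, nat_lit 4097]⟩⟩⟩,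
  ⟨[nat_lit 354, nat_lit 355, nat_lit 293, nat_lit 289, nat_lit 286], [], (nat_lit 670), ⟨[nat_lit 0, nat_lit 87, nat_lit 61], [nat_lit 41, nat_lit 89], ⟨[nat_lit 0xa8c403260f44cec22a4db06f48b8ab], [nat_lit 174080, nat_lit 168448, nat_lit 167680, nat_lit 163584, nat_lit 158784, nat_lit 152704, nat_lit 149120, nat_lit 144256, nat_lit 142612, nat_lit 138032, nat_lit 132520, nat_lit 986, nat_lit 5444, nat_lit 10032, nat_lit 13216, nat_lit 18240, nat_lit 20992, nat_lit 25600, nat_lit 29952, nat_lit 34304, nat_lit 37888, nat_lit 41652, nat_lit 37314, nat_lit 32945, nat_lit 28745, nat_lit 24586, nat_lit 20764, nat_lit 16643, nat_lit 12327, nat_lit 8194, nat_lit 32]⟩⟩⟩]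
theorem srv48 : Suf rvT 19005990 (ldrop (lapp rvwr2 [2, 0, 1]) 23) (apW dcM prv47) (tgtN dcM prv47.e) := Suf.seg (l := lrv48) (by decide +kernel) srv49
def lrv47 : List AP := [⟨[nat_lit 670, nat_lit 287, nat_lit 295, nat_lit 284, nat_lit 287], [], (nat_lit 656), ⟨[nat_lit 28, nat_lit 69], [nat_lit 0, nat_lit 44, nat_lit 61], ⟨[nat_lit 0x759950094908d0b91e66810b1a3eed], [nat_lit 173056, nat_lit 165376, nat_lit 160128, nat_lit 156096, nat_lit 153248, nat_lit 147680, nat_lit 145136, nat_lit 142044, nat_lit 136226, nat_lit 131102, nat_lit 488, nat_lit 4756, nat_lit 10088, nat_lit 14144, nat_lit 16608, nat_lit 20992, nat_lit 26368, nat_lit 29184, nat_lit 34304, nat_lit 37888, nat_lit 41948, nat_lit 37163, nat_lit 33287, nat_lit 28716, nat_lit 25602, nat_lit 20507, nat_lit 16423, nat_lit 12292, nat_lit 4128]⟩⟩⟩,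
  ⟨[nat_lit 233, nat_lit 667, nat_lit 265, nat_lit 224, nat_lit 223], [], (nat_lit 640), ⟨[nat_lit 0, nat_lit 24, nat_lit 60], [nat_lit 74, nat_lit 61], ⟨[nat_lit 0x7c44c312012ddcab0eb23b51402573], [nat_lit 160256, nat_lit 155840, nat_lit 152032, nat_lit 150096, nat_lit 144536, nat_lit 140284, nat_lit 135890, nat_lit 131807, nat_lit 606, nat_lit 5064, nat_lit 9752, nat_lit 14224, nat_lit 16416, nat_lit 21312, nat_lit 25600, nat_lit 29952, nat_lit 34304, nat_lit 41691, nat_lit 38379, nat_lit 32880, nat_lit 29739, nat_lit 24586, nat_lit 20494, nat_lit 12295, nat_lit 8194]⟩⟩⟩]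
theorem srv47 : Suf rvT 19005990 (ldrop (lapp rvwr2 [2, 0, 1]) 15) (apW dcM prv46) (tgtN dcM prv46.e) := Suf.seg (l := lrv47) (by decide +kernel) srv48
def lrv46 : List AP := [⟨[nat_lit 14, nat_lit 14, nat_lit 43, nat_lit 16, nat_lit 17, nat_lit 37], [], (nat_lit 90), ⟨[nat_lit 30, nat_lit 59], [nat_lit 45, nat_lit 58], ⟨[nat_lit 0x440464c8a1bb9edad196580f19a864], [nat_lit 173056, nat_lit 169472, nat_lit 164096, nat_lit 160896, nat_lit 149216, nat_lit 143888, nat_lit 139792, nat_lit 135336, nat_lit 132487, nat_lit 1794, nat_lit 4104, nat_lit 9560, nat_lit 12304, nat_lit 16896, nat_lit 21376, nat_lit 25728, nat_lit 29184, nat_lit 41243, nat_lit 36992, nat_lit 33832, nat_lit 29253, nat_lit 24735, nat_lit 20755, nat_lit 16458, nat_lit 12359, nat_lit 8200, nat_lit 4160, nat_lit 4]⟩⟩⟩,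
  ⟨[nat_lit 639, nat_lit 68, nat_lit 51, nat_lit 67, nat_lit 49], [], (nat_lit 368), ⟨[nat_lit 0, nat_lit 79, nat_lit 51], [nat_lit 0, nat_lit 71, nat_lit 52], ⟨[nat_lit 0x90d44832f10cca9b2de803455750e6], [nat_lit 166912, nat_lit 159872, nat_lit 156544, nat_lit 154464, nat_lit 150000, nat_lit 146976, nat_lit 142864, nat_lit 138504, nat_lit 131733, nat_lit 158, nat_lit 5436, nat_lit 10128, nat_lit 12736, nat_lit 16416, nat_lit 21504, nat_lit 25600, nat_lit 30464, nat_lit 33792, nat_lit 37888, nat_lit 41533, nat_lit 36933, nat_lit 32770, nat_lit 28726, nat_lit 25095, nat_lit 20498, nat_lit 16429, nat_lit 12305, nat_lit 8200, nat_lit 4097, nat_lit 2]⟩⟩⟩]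
theorem rvcr2_1 : Suf rvT 19005990 (lapp rvwr2 [2, 0, 1]) (iC2 :: apW dcM q0) (tgtN dcM q0.e) := Suf.seg (l := lrv46) (by decide +kernel) srv47


end

end CF.RV.M
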