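import Cfsg.Agent.RV.MD

set_option autoImplicit false
set_option maxRecDepth 100000

namespace CF.RV.M

open CF.Comp CF.Mon CF.Mon.Tr

noncomputable section

def prv52 : AP := ⟨[nat_lit 353, nat_lit 352, nat_lit 671, nat_lit 289, nat_lit 288], [], (nat_lit 698), ⟨[nat_lit 0, nat_lit 80, nat_lit 65], [nat_lit 4, nat_lit 46], ⟨[nat_lit 0x2d50f00c325dc8e9c4506a68665947], [nat_lit 173056, nat_lit 169472, nat_lit 161664, nat_lit 155904, nat_lit 152544, nat_lit 147600, nat_lit 145560, nat_lit 140916, nat_lit 137124, nat_lit 132557, nat_lit 1174, nat_lit 5544, nat_lit 9096, nat_lit 13072, nat_lit 18176, nat_lit 22336, nat_lit 26368, nat_lit 28928, nat_lit 33280, nat_lit 37888, nat_lit 41918, nat_lit 38236, nat_lit 32856, nat_lit 29210, nat_lit 24736, nat_lit 16392, nat_lit 12310, nat_lit 8195, nat_lit 4100]⟩⟩⟩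
def prv53 : AP := ⟨[nat_lit 357, nat_lit 355, nat_lit 289, nat_lit 291], [], (nat_lit 1126), ⟨[nat_lit 0, nat_lit 87, nat_lit 47], [nat_lit 79, nat_lit 50], ⟨[nat_lit 0x8ce927180b209ea1a587bda1569428], [nat_lit 175104, nat_lit 169472, nat_lit 165632, nat_lit 160256, nat_lit 152320, nat_lit 148384, nat_lit 145256, nat_lit 140644, nat_lit 135828, nat_lit 132742, nat_lit 236, nat_lit 5120, nat_lit 8840, nat_lit 14032, nat_lit 16608, nat_lit 21056, nat_lit 24832, nat_lit 28928, nat_lit 33792, nat_lit 37888, nat_lit 41485, nat_lit 37928, nat_lit 32915, nat_lit 29011, nat_lit 24714, nat_lit 20997, nat_lit 16644, nat_lit 12355, nat_lit 8211, nat_lit 8]⟩⟩⟩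
def prv54 : AP := ⟨[nat_lit 356, nat_lit 357, nat_lit 357, nat_lit 286, nat_lit 291], [], (nat_lit 1136), ⟨[nat_lit 0, nat_lit 38, nat_lit 63], [nat_lit 23, nat_lit 48], ⟨[nat_lit 0xc4eda5d3552ec870a059106f60266], [nat_lit 174080, nat_lit 165376, nat_lit 159872, nat_lit 158208, nat_lit 154976, nat_lit 150368, nat_lit 144568, nat_lit 141844, nat_lit 136474, nat_lit 133160, nat_lit 116, nat_lit 5688, nat_lit 9328, nat_lit 13328, nat_lit 18272, nat_lit 22208, nat_lit 25728, nat_lit 28928, nat_lit 33792, nat_lit 37888, nat_lit 41137, nat_lit 36927, nat_lit 32897, nat_lit 28729, nat_lit 24590, nat_lit 20625, nat_lit 16393, nat_lit 12310]⟩⟩⟩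
def prv55 : AP := ⟨[nat_lit 294, nat_lit 672, nat_lit 351, nat_lit 288], [], (nat_lit 700), ⟨[nat_lit 0, nat_lit 19, nat_lit 60], [nat_lit 24, nat_lit 63], ⟨[nat_lit 0x6293300e0d0d567bcacfa1502345c4], [nat_lit 168448, nat_lit 164864, nat_lit 161280, nat_lit 155968, nat_lit 152672, nat_lit 148976, nat_lit 146976, nat_lit 140052, nat_lit 137148, nat_lit 131216, nat_lit 606, nat_lit 5124, nat_lit 8704, nat_lit 13312, nat_lit 16896, nat_lit 21888, nat_lit 25728, nat_lit 29952, nat_lit 33280, nat_lit 37888, nat_lit 41864, nat_lit 37320, nat_lit 33448, nat_lit 29248, nat_lit 24863, nat_lit 20550, nat_lit 16421, nat_lit 8208, nat_lit 4161, nat_lit 32]⟩⟩⟩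
def prv56 : AP := ⟨[nat_lit 293, nat_lit 288], [], (nat_lit 1222), ⟨[nat_lit 15, nat_lit 52], [nat_lit 0, nat_lit 83, nat_lit 90], ⟨[nat_lit 0x1a9b424528b2c0e98827915ec85cd5], [nat_lit 173056, nat_lit 169984, nat_lit 164608, nat_lit 161152, nat_lit 156416, nat_lit 152064, nat_lit 148160, nat_lit 144848, nat_lit 139996, nat_lit 135400, nat_lit 131219, nat_lit 1250, nat_lit 5268, nat_lit 9336, nat_lit 13792, nat_lit 16640, nat_lit 20992, nat_lit 24832, nat_lit 33792, nat_lit 37888, nat_lit 41600, nat_lit 37202, nat_lit 33367, nat_lit 28680, nat_lit 25106, nat_lit 16904, nat_lit 12306, nat_lit 8450, nat_lit 4101]⟩⟩⟩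
def lrv57 : List AP := [⟨[nat_lit 55, nat_lit 47], [], (nat_lit 122), ⟨[nat_lit 0, nat_lit 88, nat_lit 70], [nat_lit 15, nat_lit 46], ⟨[nat_lit 0xb5193344afaa8835b93000a4d45ce1], [nat_lit 171520, nat_lit 156992, nat_lit 152640, nat_lit 147904, nat_lit 144016, nat_lit 141276, nat_lit 136852, nat_lit 133010, nat_lit 1180, nat_lit 4608, nat_lit 8424, nat_lit 13920, nat_lit 18272, nat_lit 20864, nat_lit 24832, nat_lit 33280, nat_lit 41100, nat_lit 36992, nat_lit 32832, nat_lit 29184, nat_lit 24840, nat_lit 20499, nat_lit 16385, nat_lit 12352, nat_lit 9217, nat_lit 4097, nat_lit 2]⟩⟩⟩,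
  ⟨[nat_lit 42, nat_lit 16, nat_lit 36], [], (nat_lit 1032), ⟨[nat_lit 0, nat_lit 85, nat_lit 61], [nat_lit 0, nat_lit 73, nat_lit 91], ⟨[nat_lit 0x95994136605450e81de459ae3286a9], [nat_lit 168960, nat_lit 166912, nat_lit 161920, nat_lit 158912, nat_lit 154944, nat_lit 147472, nat_lit 147240, nat_lit 143012, nat_lit 136880, nat_lit 134234, nat_lit 1066, nat_lit 5900, nat_lit 9664, nat_lit 12864, nat_lit 17664, nat_lit 20608, nat_lit 26240, nat_lit 28928, nat_lit 41355, nat_lit 37038, nat_lit 33808, nat_lit 28995, nat_lit 24620, nat_lit 20491, nat_lit 16523, nat_lit 12291, nat_lit 8193]⟩⟩⟩]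
theorem srv57 : Suf rvT 19005990 (ldrop (lapp rvwr2 [3, 0, 1]) 51) (apW dcM prv56) (tgtN dcM prv56.e) := Suf.fin' (l := lrv57) (by decide +kernel)
def lrv56 : List AP := [⟨[nat_lit 260, nat_lit 265, nat_lit 261, nat_lit 222, nat_lit 222], [], (nat_lit 638), ⟨[nat_lit 0, nat_lit 42, nat_lit 59], [nat_lit 8, nat_lit 60], ⟨[nat_lit 0xb86422c6a4741969ae8953cc3680e8], [nat_lit 170496, nat_lit 165376, nat_lit 160000, nat_lit 157440, nat_lit 151584, nat_lit 147680, nat_lit 144360, nat_lit 140656, nat_lit 136568, nat_lit 131287, nat_lit 1438, nat_lit 5276, nat_lit 8680, nat_lit 12544, nat_lit 16640, nat_lit 21184, nat_lit 30464, nat_lit 33280, nat_lit 37888, nat_lit 41896, nat_lit 37013, nat_lit 32858, nat_lit 29205, nat_lit 24842, nat_lit 20492, nat_lit 16456, nat_lit 12311, nat_lit 8200, nat_lit 4100, nat_lit 2]⟩⟩⟩,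
  ⟨[nat_lit 289, nat_lit 288, nat_lit 354, nat_lit 284], [], (nat_lit 770), ⟨[nat_lit 85, nat_lit 92], [nat_lit 82, nat_lit 65], ⟨[nat_lit 0x3408b621d2552d1134b5980293bc77], [nat_lit 173056, nat_lit 166656, nat_lit 161408, nat_lit 155968, nat_lit 152288, nat_lit 149088, nat_lit 144160, nat_lit 141160, nat_lit 136284, nat_lit 131369, nat_lit 1396, nat_lit 4576, nat_lit 9032, nat_lit 12544, nat_lit 17728, nat_lit 22336, nat_lit 26496, nat_lit 30464, nat_lit 33280, nat_lit 41021, nat_lit 37244, nat_lit 32831, nat_lit 28706, nat_lit 25148, nat_lit 20506, nat_lit 16420, nat_lit 12291, nat_lit 8210, nat_lit 4105]⟩⟩⟩]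
theorem srv56 : Suf rvT 19005990 (ldrop (lapp rvwr2 [3, 0, 1]) 41) (apW dcM prv55) (tgtN dcM prv55.e) := Suf.seg (l := lrv56) (by decide +kernel) srv57
def lrv55 : List AP := [⟨[nat_lit 228, nat_lit 266, nat_lit 225, nat_lit 228], [], (nat_lit 624), ⟨[nat_lit 0, nat_lit 9, nat_lit 92], [nat_lit 20, nat_lit 65], ⟨[nat_lit 0x69ee51d5e2482060cc8b8cacc53a88], [nat_lit 175104, nat_lit 171008, nat_lit 165632, nat_lit 162560, nat_lit 159488, nat_lit 155584, nat_lit 148736, nat_lit 145280, nat_lit 139368, nat_lit 137676, nat_lit 133516, nat_lit 2018, nat_lit 4380, nat_lit 9904, nat_lit 14224, nat_lit 18048, nat_lit 20608, nat_lit 25600, nat_lit 28928, nat_lit 34304, nat_lit 41729, nat_lit 37113, nat_lit 32887, nat_lit 28790, nat_lit 24707, nat_lit 20564, nat_lit 16454, nat_lit 12801, nat_lit 8193, nat_lit 4112]⟩⟩⟩,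
  ⟨[nat_lit 672, nat_lit 285, nat_lit 357, nat_lit 292], [], (nat_lit 676), ⟨[nat_lit 23, nat_lit 56], [nat_lit 0, nat_lit 29, nat_lit 70], ⟨[nat_lit 0x53132b4df7815c768a210128b41875], [nat_lit 169984, nat_lit 161280, nat_lit 157952, nat_lit 153536, nat_lit 148256, nat_lit 146312, nat_lit 142676, nat_lit 138000, nat_lit 134681, nat_lit 1770, nat_lit 5072, nat_lit 8352, nat_lit 12544, nat_lit 17088, nat_lit 20672, nat_lit 24704, nat_lit 30208, nat_lit 33792, nat_lit 41557, nat_lit 38136, nat_lit 32791, nat_lit 29256, nat_lit 24719, nat_lit 20559, nat_lit 16648, nat_lit 12306, nat_lit 8193, nat_lit 4112, nat_lit 2]⟩⟩⟩]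
theorem srv55 : Suf rvT 19005990 (ldrop (lapp rvwr2 [3, 0, 1]) 33) (apW dcM prv54) (tgtN dcM prv54.e) := Suf.seg (l := lrv55) (by decide +kernel) srv56
def lrv54 : List AP := [⟨[nat_lit 145, nat_lit 656, nat_lit 140, nat_lit 145, nat_lit 139], [], (nat_lit 326), ⟨[nat_lit 21, nat_lit 46], [nat_lit 0, nat_lit 5, nat_lit 63], ⟨[nat_lit 0x991b271822bc520620ea80d747d6c5], [nat_lit 175104, nat_lit 169472, nat_lit 164608, nat_lit 161664, nat_lit 157120, nat_lit 153216, nat_lit 149056, nat_lit 143928, nat_lit 140320, nat_lit 136570, nat_lit 131090, nat_lit 568, nat_lit 5208, nat_lit 8320, nat_lit 13152, nat_lit 16704, nat_lit 26240, nat_lit 29440, nat_lit 33280, nat_lit 37888, nat_lit 41704, nat_lit 38162, nat_lit 33481, nat_lit 28674, nat_lit 25150, nat_lit 20755, nat_lit 16643, nat_lit 8259, nat_lit 4100, nat_lit 2]⟩⟩⟩,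
  ⟨[nat_lit 655, nat_lit 654, nat_lit 148, nat_lit 139, nat_lit 143, nat_lit 139], [], (nat_lit 1058), ⟨[nat_lit 0, nat_lit 35, nat_lit 57], [nat_lit 0, nat_lit 6, nat_lit 60], ⟨[nat_lit 0x59dc4800b4134680c4d5b32ea7a672], [nat_lit 165376, nat_lit 160512, nat_lit 155776, nat_lit 151712, nat_lit 147568, nat_lit 144672, nat_lit 139684, nat_lit 136008, nat_lit 133361, nat_lit 4684, nat_lit 8912, nat_lit 14176, nat_lit 16608, nat_lit 20672, nat_lit 24704, nat_lit 30208, nat_lit 37888, nat_lit 41363, nat_lit 36993, nat_lit 32830, nat_lit 28772, nat_lit 24609, nat_lit 20497, nat_lit 16431, nat_lit 12289, nat_lit 8209]⟩⟩⟩]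
theorem srv54 : Suf rvT 19005990 (ldrop (lapp rvwr2 [3, 0, 1]) 23) (apW dcM prv53) (tgtN dcM prv53.e) := Suf.seg (l := lrv54) (by decide +kernel) srv55
def lrv53 : List AP := [⟨[nat_lit 232, nat_lit 668, nat_lit 227, nat_lit 668, nat_lit 226], [], (nat_lit 610), ⟨[nat_lit 44, nat_lit 90], [nat_lit 0, nat_lit 84, nat_lit 48], ⟨[nat_lit 0xac19630914710b15c94d7866048cf7], [nat_lit 173056, nat_lit 168960, nat_lit 165376, nat_lit 160000, nat_lit 157504, nat_lit 152064, nat_lit 148208, nat_lit 143480, nat_lit 142384, nat_lit 135504, nat_lit 131758, nat_lit 1136, nat_lit 4328, nat_lit 8200, nat_lit 13600, nat_lit 16704, nat_lit 22272, nat_lit 25472, nat_lit 30464, nat_lit 33792, nat_lit 37888, nat_lit 41062, nat_lit 37164, nat_lit 32889, nat_lit 28691, nat_lit 24885, nat_lit 20764, nat_lit 16397, nat_lit 12290, nat_lit 4097]⟩⟩⟩,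
  ⟨[nat_lit 290, nat_lit 353, nat_lit 357, nat_lit 672, nat_lit 284], [], (nat_lit 1158), ⟨[nat_lit 0, nat_lit 25, nat_lit 68], [nat_lit 0, nat_lit 21, nat_lit 60], ⟨[nat_lit 0x8144eb214b33260911e30c4edbd534], [nat_lit 173056, nat_lit 168448, nat_lit 166656, nat_lit 160384, nat_lit 155712, nat_lit 152416, nat_lit 149344, nat_lit 143616, nat_lit 140848, nat_lit 135342, nat_lit 132136, nat_lit 1730, nat_lit 5316, nat_lit 10128, nat_lit 13712, nat_lit 18272, nat_lit 20736, nat_lit 25088, nat_lit 30464, nat_lit 34304, nat_lit 37888, nat_lit 41216, nat_lit 37297, nat_lit 33016, nat_lit 28997, nat_lit 24638, nat_lit 20484, nat_lit 16395, nat_lit 12304, nat_lit 8225, nat_lit 4]⟩⟩⟩]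
theorem srv53 : Suf rvT 19005990 (ldrop (lapp rvwr2 [3, 0, 1]) 15) (apW dcM prv52) (tgtN dcM prv52.e) := Suf.seg (l := lrv53) (by decide +kernel) srv54
def lrv52 : List AP := [⟨[nat_lit 15, nat_lit 629, nat_lit 629, nat_lit 631, nat_lit 42, nat_lit 16], [], (nat_lit 90), ⟨[nat_lit 78, nat_lit 46], [nat_lit 88, nat_lit 47], ⟨[nat_lit 0x8366faa6eb64a2e184c5552c838804], [nat_lit 174080, nat_lit 168960, nat_lit 167680, nat_lit 163328, nat_lit 158336, nat_lit 151776, nat_lit 148320, nat_lit 143760, nat_lit 141604, nat_lit 137684, nat_lit 132888, nat_lit 16, nat_lit 5588, nat_lit 8208, nat_lit 12608, nat_lit 16640, nat_lit 22272, nat_lit 26368, nat_lit 29184, nat_lit 33280, nat_lit 41522, nat_lit 37973, nat_lit 32914, nat_lit 28795, nat_lit 24588, nat_lit 20506, nat_lit 16386, nat_lit 12289, nat_lit 8194, nat_lit 4097, nat_lit 2]⟩⟩⟩,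
  ⟨[nat_lit 643, nat_lit 640, nat_lit 71, nat_lit 48, nat_lit 642], [], (nat_lit 716), ⟨[nat_lit 0, nat_lit 6, nat_lit 94], [nat_lit 11, nat_lit 89], ⟨[nat_lit 0x4246a6d2240ac029bac7ab2462be17], [nat_lit 173056, nat_lit 165376, nat_lit 161280, nat_lit 156416, nat_lit 154624, nat_lit 149216, nat_lit 144840, nat_lit 140748, nat_lit 136012, nat_lit 132243, nat_lit 1108, nat_lit 4868, nat_lit 9376, nat_lit 14304, nat_lit 17408, nat_lit 20544, nat_lit 25600, nat_lit 33792, nat_lit 37888, nat_lit 41402, nat_lit 36960, nat_lit 33877, nat_lit 28943, nat_lit 24624, nat_lit 20483, nat_lit 16448, nat_lit 12551, nat_lit 8451, nat_lit 4129]⟩⟩⟩]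
theorem rvcr2_2 : Suf rvT 19005990 (lapp rvwr2 [3, 0, 1]) (iC3 :: apW dcM q0) (tgtN dcM q0.e) := Suf.seg (l := lrv52) (by decide +kernel) srv53

def prv58 : AP := ⟨[nat_lit 289, nat_lit 295, nat_lit 670, nat_lit 295, nat_lit 284], [], (nat_lit 1152), ⟨[nat_lit 5, nat_lit 62], [nat_lit 88, nat_lit 52], ⟨[nat_lit 0x5dab1448c514029a30e073d536dc83], [nat_lit 173056, nat_lit 168448, nat_lit 165632, nat_lit 160640, nat_lit 156096, nat_lit 152960, nat_lit 147808, nat_lit 144376, nat_lit 139888, nat_lit 136558, nat_lit 132559, nat_lit 1148, nat_lit 5664, nat_lit 9536, nat_lit 13712, nat_lit 22144, nat_lit 25728, nat_lit 29952, nat_lit 34304, nat_lit 37888, nat_lit 41976, nat_lit 38392, nat_lit 34005, nat_lit 28703, nat_lit 25656, nat_lit 20749, nat_lit 16387, nat_lit 12422, nat_lit 8322, nat_lit 4113, nat_lit 4]⟩⟩⟩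
def prv59 : AP := ⟨[nat_lit 286, nat_lit 292, nat_lit 672, nat_lit 293], [], (nat_lit 1146), ⟨[nat_lit 10, nat_lit 55], [nat_lit 0, nat_lit 40, nat_lit 91], ⟨[nat_lit 0xb40b7651406a2a13446273cf34ae44], [nat_lit 168960, nat_lit 164608, nat_lit 161024, nat_lit 156928, nat_lit 155104, nat_lit 147472, nat_lit 145264, nat_lit 140924, nat_lit 136698, nat_lit 131202, nat_lit 606, nat_lit 5080, nat_lit 9752, nat_lit 14224, nat_lit 16416, nat_lit 21952, nat_lit 25984, nat_lit 29184, nat_lit 33280, nat_lit 41784, nat_lit 38381, nat_lit 33004, nat_lit 29005, nat_lit 24623, nat_lit 20499, nat_lit 16385, nat_lit 12353, nat_lit 8200, nat_lit 4100, nat_lit 16]⟩⟩⟩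
def prv60 : AP := ⟨[nat_lit 230, nat_lit 668, nat_lit 261, nat_lit 231, nat_lit 222], [], (nat_lit 1110), ⟨[nat_lit 83, nat_lit 57], [nat_lit 0, nat_lit 9, nat_lit 64], ⟨[nat_lit 0x3c0c39da807550523eeb4aa216c84c], [nat_lit 173056, nat_lit 171008, nat_lit 165120, nat_lit 162432, nat_lit 157120, nat_lit 153664, nat_lit 150992, nat_lit 146720, nat_lit 140592, nat_lit 135544, nat_lit 133844, nat_lit 902, nat_lit 4408, nat_lit 12896, nat_lit 17216, nat_lit 21056, nat_lit 24960, nat_lit 29184, nat_lit 33280, nat_lit 41554, nat_lit 37351, nat_lit 33346, nat_lit 28962, nat_lit 25151, nat_lit 20495, nat_lit 16397, nat_lit 12305, nat_lit 8195, nat_lit 4097]⟩⟩⟩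
def prv61 : AP := ⟨[nat_lit 233, nat_lit 667, nat_lit 230], [], (nat_lit 1118), ⟨[nat_lit 0, nat_lit 8, nat_lit 90], [nat_lit 0, nat_lit 36, nat_lit 54], ⟨[nat_lit 0xa888679e480a68ab023360eee5c1a5], [nat_lit 175104, nat_lit 168960, nat_lit 165376, nat_lit 163072, nat_lit 157376, nat_lit 152416, nat_lit 149968, nat_lit 147344, nat_lit 141932, nat_lit 139210, nat_lit 133409, nat_lit 1054, nat_lit 5488, nat_lit 10224, nat_lit 13856, nat_lit 17248, nat_lit 20736, nat_lit 24832, nat_lit 28928, nat_lit 33792, nat_lit 41641, nat_lit 38184, nat_lit 32944, nat_lit 28762, nat_lit 24731, nat_lit 20753, nat_lit 16527, nat_lit 12291, nat_lit 8208]⟩⟩⟩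
def prv62 : AP := ⟨[nat_lit 659, nat_lit 219, nat_lit 176], [], (nat_lit 1088), ⟨[nat_lit 0, nat_lit 88], [nat_lit 33, nat_lit 52], ⟨[nat_lit 0x7120094eca59687ba5ec899a345441], [nat_lit 170496, nat_lit 164352, nat_lit 161152, nat_lit 159680, nat_lit 152832, nat_lit 147776, nat_lit 146016, nat_lit 143152, nat_lit 138582, nat_lit 133876, nat_lit 588, nat_lit 4100, nat_lit 9384, nat_lit 13728, nat_lit 17728, nat_lit 22464, nat_lit 25344, nat_lit 29952, nat_lit 34304, nat_lit 37888, nat_lit 41743, nat_lit 37234, nat_lit 33447, nat_lit 28987, nat_lit 24628, nat_lit 20490, nat_lit 16451, nat_lit 12295, nat_lit 4097]⟩⟩⟩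
def lrv63 : List AP := [⟨[nat_lit 53, nat_lit 641, nat_lit 51], [], (nat_lit 1040), ⟨[nat_lit 0, nat_lit 85, nat_lit 52], [nat_lit 1, nat_lit 94], ⟨[nat_lit 0x80a41424c575aec00e3359d44a3db5], [nat_lit 175104, nat_lit 168448, nat_lit 165888, nat_lit 162944, nat_lit 158912, nat_lit 153376, nat_lit 149184, nat_lit 144408, nat_lit 142632, nat_lit 138318, nat_lit 133056, nat_lit 804, nat_lit 5900, nat_lit 8288, nat_lit 13024, nat_lit 16416, nat_lit 21888, nat_lit 25728, nat_lit 30208, nat_lit 33792, nat_lit 41053, nat_lit 37290, nat_lit 32941, nat_lit 29052, nat_lit 24763, nat_lit 20484, nat_lit 16394, nat_lit 12290, nat_lit 8226, nat_lit 4097]⟩⟩⟩,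
  ⟨[], [], (nat_lit 1034), ⟨[nat_lit 6, nat_lit 54], [nat_lit 0, nat_lit 35, nat_lit 91], ⟨[nat_lit 0x1cee890154115c16c22735aaf23169], [nat_lit 168448, nat_lit 165632, nat_lit 160128, nat_lit 156288, nat_lit 153408, nat_lit 148832, nat_lit 145400, nat_lit 140476, nat_lit 136890, nat_lit 134775, nat_lit 1478, nat_lit 5064, nat_lit 8928, nat_lit 13552, nat_lit 17024, nat_lit 20736, nat_lit 24704, nat_lit 29440, nat_lit 34304, nat_lit 37888, nat_lit 41928, nat_lit 37162, nat_lit 33308, nat_lit 28762, nat_lit 24741, nat_lit 20544, nat_lit 16424, nat_lit 12295, nat_lit 8202, nat_lit 4104]⟩⟩⟩]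
theorem srv63 : Suf rvT 2048 (ldrop (lapp rvwr2 [1, 0, 1]) 51) (apW dcM prv62) (tgtN dcM prv62.e) := Suf.fin' (l := lrv63) (by decide +kernel)
def lrv62 : List AP := [⟨[nat_lit 411, nat_lit 421, nat_lit 676, nat_lit 419], [], (nat_lit 904), ⟨[nat_lit 87, nat_lit 93], [nat_lit 0, nat_lit 5, nat_lit 94], ⟨[nat_lit 0x789647180a2c4f61d433636f2a2510], [nat_lit 175104, nat_lit 169472, nat_lit 164096, nat_lit 159872, nat_lit 157632, nat_lit 151776, nat_lit 148384, nat_lit 144384, nat_lit 140704, nat_lit 136242, nat_lit 132669, nat_lit 1874, nat_lit 5316, nat_lit 9240, nat_lit 14240, nat_lit 22464, nat_lit 25600, nat_lit 29440, nat_lit 33792, nat_lit 41691, nat_lit 37940, nat_lit 32773, nat_lit 29260, nat_lit 24577, nat_lit 20627, nat_lit 16416, nat_lit 12807, nat_lit 8451, nat_lit 4100, nat_lit 64]⟩⟩⟩,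
  ⟨[nat_lit 219, nat_lit 216, nat_lit 214, nat_lit 219], [], (nat_lit 410), ⟨[nat_lit 18, nat_lit 48], [nat_lit 16, nat_lit 90], ⟨[nat_lit 0x905742ec602a6ca1dee8d64580da9], [nat_lit 171520, nat_lit 166656, nat_lit 162688, nat_lit 157696, nat_lit 152384, nat_lit 150224, nat_lit 147368, nat_lit 139400, nat_lit 137442, nat_lit 132246, nat_lit 1066, nat_lit 5580, nat_lit 9752, nat_lit 12352, nat_lit 17664, nat_lit 20800, nat_lit 25600, nat_lit 41671, nat_lit 38350, nat_lit 33515, nat_lit 28972, nat_lit 24590, nat_lit 20767, nat_lit 16419, nat_lit 12294, nat_lit 8194, nat_lit 4101, nat_lit 2]⟩⟩⟩]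
theorem srv62 : Suf rvT 2048 (ldrop (lapp rvwr2 [1, 0, 1]) 41) (apW dcM prv61) (tgtN dcM prv61.e) := Suf.seg (l := lrv62) (by decide +kernel) srv63
def lrv61 : List AP := [⟨[nat_lit 228, nat_lit 262, nat_lit 262, nat_lit 224], [], (nat_lit 513), ⟨[nat_lit 0, nat_lit 36, nat_lit 92], [nat_lit 0, nat_lit 43, nat_lit 68], ⟨[nat_lit 0xb923858a08adb37990465157908f5], [nat_lit 173056, nat_lit 170496, nat_lit 164096, nat_lit 161792, nat_lit 156288, nat_lit 154784, nat_lit 149696, nat_lit 147184, nat_lit 139904, nat_lit 135306, nat_lit 133918, nat_lit 1766, nat_lit 5668, nat_lit 8824, nat_lit 12912, nat_lit 17568, nat_lit 21056, nat_lit 24704, nat_lit 29952, nat_lit 33280, nat_lit 37888, nat_lit 41451, nat_lit 37259, nat_lit 33520, nat_lit 28758, nat_lit 24584, nat_lit 20744, nat_lit 16388, nat_lit 12291, nat_lit 8195, nat_lit 4]⟩⟩⟩,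
  ⟨[nat_lit 266, nat_lit 261, nat_lit 227, nat_lit 668], [], (nat_lit 516), ⟨[nat_lit 35, nat_lit 46], [nat_lit 30, nat_lit 92], ⟨[nat_lit 0x945c758ed00104c4a1a67d2a59dd41], [nat_lit 173056, nat_lit 168960, nat_lit 164096, nat_lit 161280, nat_lit 156800, nat_lit 152064, nat_lit 149088, nat_lit 147016, nat_lit 139396, nat_lit 135364, nat_lit 131979, nat_lit 1808, nat_lit 4104, nat_lit 9064, nat_lit 14000, nat_lit 17952, nat_lit 20672, nat_lit 24704, nat_lit 29440, nat_lit 34304, nat_lit 37888, nat_lit 41464, nat_lit 37089, nat_lit 32920, nat_lit 29003, nat_lit 24600, nat_lit 20487, nat_lit 16392, nat_lit 12311, nat_lit 8193, nat_lit 4097, nat_lit 2]⟩⟩⟩]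
theorem srv61 : Suf rvT 2048 (ldrop (lapp rvwr2 [1, 0, 1]) 33) (apW dcM prv60) (tgtN dcM prv60.e) := Suf.seg (l := lrv61) (by decide +kernel) srv62
def lrv60 : List AP := [⟨[nat_lit 227, nat_lit 259, nat_lit 230, nat_lit 231, nat_lit 224], [], (nat_lit 640), ⟨[nat_lit 31, nat_lit 91], [nat_lit 0, nat_lit 19], ⟨[nat_lit 0x490f79aa14459af5d4023064c8b8a3], [nat_lit 174080, nat_lit 170496, nat_lit 167168, nat_lit 160128, nat_lit 152960, nat_lit 149872, nat_lit 145200, nat_lit 140428, nat_lit 137956, nat_lit 133183, nat_lit 1818, nat_lit 4540, nat_lit 10168, nat_lit 12800, nat_lit 16960, nat_lit 20608, nat_lit 26496, nat_lit 34304, nat_lit 40975, nat_lit 37321, nat_lit 33340, nat_lit 29052, nat_lit 24860, nat_lit 20563, nat_lit 16417, nat_lit 12289, nat_lit 8193, nat_lit 4112]⟩⟩⟩,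
  ⟨[nat_lit 291, nat_lit 293, nat_lit 355, nat_lit 289], [], (nat_lit 682), ⟨[nat_lit 0, nat_lit 20, nat_lit 62], [nat_lit 0, nat_lit 29, nat_lit 47], ⟨[nat_lit 0xb4531a8f4b46ef026a582d88938c4], [nat_lit 175104, nat_lit 170496, nat_lit 167680, nat_lit 160256, nat_lit 156864, nat_lit 153280, nat_lit 150144, nat_lit 143584, nat_lit 140624, nat_lit 137280, nat_lit 134357, nat_lit 1794, nat_lit 5436, nat_lit 10144, nat_lit 13024, nat_lit 16640, nat_lit 26496, nat_lit 29696, nat_lit 33792, nat_lit 41943, nat_lit 38043, nat_lit 32913, nat_lit 28930, nat_lit 25149, nat_lit 20557, nat_lit 16385, nat_lit 12325, nat_lit 8193, nat_lit 4224]⟩⟩⟩]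
theorem srv60 : Suf rvT 2048 (ldrop (lapp rvwr2 [1, 0, 1]) 23) (apW dcM prv59) (tgtN dcM prv59.e) := Suf.seg (l := lrv60) (by decide +kernel) srv61
def lrv59 : List AP := [⟨[nat_lit 260, nat_lit 667, nat_lit 224, nat_lit 263, nat_lit 229], [], (nat_lit 608), ⟨[nat_lit 0, nat_lit 23, nat_lit 69], [nat_lit 41, nat_lit 66], ⟨[nat_lit 0x80d87a214b794116c8c2adec99848e], [nat_lit 166912, nat_lit 160512, nat_lit 155712, nat_lit 151648, nat_lit 148656, nat_lit 143976, nat_lit 139288, nat_lit 136968, nat_lit 131634, nat_lit 1530, nat_lit 4112, nat_lit 10144, nat_lit 13264, nat_lit 17248, nat_lit 21888, nat_lit 26496, nat_lit 33280, nat_lit 41711, nat_lit 37942, nat_lit 32804, nat_lit 28723, nat_lit 24634, nat_lit 20575, nat_lit 16390, nat_lit 12359, nat_lit 8203, nat_lit 4100, nat_lit 8]⟩⟩⟩,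
  ⟨[nat_lit 284, nat_lit 669, nat_lit 289, nat_lit 290, nat_lit 289], [], (nat_lit 650), ⟨[nat_lit 0, nat_lit 74, nat_lit 49], [nat_lit 29, nat_lit 50], ⟨[nat_lit 0x81e37651c6149e9200361cda852ea5], [nat_lit 169472, nat_lit 164352, nat_lit 160384, nat_lit 157312, nat_lit 154944, nat_lit 148064, nat_lit 145248, nat_lit 139684, nat_lit 136950, nat_lit 132272, nat_lit 1634, nat_lit 4952, nat_lit 8648, nat_lit 13408, nat_lit 16480, nat_lit 20608, nat_lit 26240, nat_lit 28928, nat_lit 34304, nat_lit 41285, nat_lit 37340, nat_lit 32803, nat_lit 28735, nat_lit 25148, nat_lit 20487, nat_lit 16527, nat_lit 12422, nat_lit 8225, nat_lit 4101, nat_lit 2]⟩⟩⟩]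
theorem srv59 : Suf rvT 2048 (ldrop (lapp rvwr2 [1, 0, 1]) 15) (apW dcM prv58) (tgtN dcM prv58.e) := Suf.seg (l := lrv59) (by decide +kernel) srv60
def lrv58 : List AP := [⟨[nat_lit 635, nat_lit 30, nat_lit 23, nat_lit 637], [], (nat_lit 391), ⟨[nat_lit 3, nat_lit 53], [nat_lit 0, nat_lit 12, nat_lit 53], ⟨[nat_lit 0x6ceaa58ca874a8980624b02e763c46], [nat_lit 173056, nat_lit 168960, nat_lit 164096, nat_lit 161024, nat_lit 155840, nat_lit 152704, nat_lit 148480, nat_lit 146920, nat_lit 139408, nat_lit 135942, nat_lit 132818, nat_lit 158, nat_lit 4408, nat_lit 10088, nat_lit 13152, nat_lit 16832, nat_lit 20928, nat_lit 24704, nat_lit 30208, nat_lit 33792, nat_lit 41543, nat_lit 36904, nat_lit 33016, nat_lit 28731, nat_lit 24848, nat_lit 20549, nat_lit 16514, nat_lit 12311, nat_lit 8202, nat_lit 4104, nat_lit 16]⟩⟩⟩,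
  ⟨[nat_lit 218, nat_lit 212, nat_lit 214, nat_lit 216, nat_lit 212], [], (nat_lit 1092), ⟨[nat_lit 0, nat_lit 19, nat_lit 56], [nat_lit 0, nat_lit 42, nat_lit 47], ⟨[nat_lit 0xbc1863d22e40460955e54896a24db6], [nat_lit 173056, nat_lit 169472, nat_lit 164608, nat_lit 161536, nat_lit 157440, nat_lit 155040, nat_lit 149088, nat_lit 143384, nat_lit 140536, nat_lit 136850, nat_lit 131093, nat_lit 664, nat_lit 5024, nat_lit 9040, nat_lit 13872, nat_lit 16416, nat_lit 21504, nat_lit 25728, nat_lit 30208, nat_lit 33280, nat_lit 37888, nat_lit 41940, nat_lit 36896, nat_lit 33908, nat_lit 28778, nat_lit 24580, nat_lit 16395, nat_lit 12307, nat_lit 8195, nat_lit 4100]⟩⟩⟩]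
theorem rvcr2_3 : Suf rvT 2048 (lapp rvwr2 [1, 0, 1]) (apW dcM q1) (tgtN dcM q1.e) := Suf.seg (l := lrv58) (by decide +kernel) srv59

theorem rvcr3 : Chk rvT rvwr3 := .inr (by decide +kernel)

theorem rvcr4 : Chk rvT rvwr4 := .inr (by decide +kernel)

theorem rvcr5 : Chk rvT rvwr5 := .inr (by decide +kernel)


end

end CF.RV.M
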